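import Cfsg.Agent.SteinbergPres.NActCheck
import Cfsg.Prelude.Def_ChevE8
/-!
The conjugation check for type E8, one fundamental root at a time to bound the kernel's memory.
-/

set_option autoImplicit false

namespace CfsgLib.SteinbergPres

open Cfsg.Lie

theorem chkNActAt_E8_0 : chkNActAt chevE8 0 = true := by decide +kernel
theorem chkNActAt_E8_1 : chkNActAt chevE8 1 = true := by decide +kernel
theorem chkNActAt_E8_2 : chkNActAt chevE8 2 = true := by decide +kernel
theorem chkNActAt_E8_3 : chkNActAt chevE8 3 = true := by decide +kernel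
theorem chkNActAt_E8_4 : chkNActAt chevE8 4 = true := by decide +kernel
theorem chkNActAt_E8_5 : chkNActAt chevE8 5 = true := by decide +kernel
theorem chkNActAt_E8_6 : chkNActAt chevE8 6 = true := by decide +kernel
theorem chkNActAt_E8_7 : chkNActAt chevE8 7 = true := by decide +kernel

theorem chkNAct_E8 : chkNAct chevE8 = true := by
  rw [chkNAct, show List.range chevE8.rank = [0, 1, 2, 3, 4, 5, 6, 7] from by decide +kernel]
  simp [chkNActAt_E8_0, chkNActAt_E8_1, chkNActAt_E8_2, chkNActAt_E8_3, chkNActAt_E8_4, chkNActAt_E8_5, chkNActAt_E8_6, chkNActAt_E8_7]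

end CfsgLib.SteinbergPres
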