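import Cfsg.Agent.SteinbergPres.NActE7
import Cfsg.Agent.SteinbergPres.NActE8
/-!
All seven data pass the conjugation check.
-/

set_option autoImplicit false

namespace CfsgLib.SteinbergPres

open Cfsg.Lie

theorem chkNAct_of_mem {D : ChevalleyDatum}
    (hD : D ∈ [chevG2, chevB2, chevD4, chevF4, chevE6, chevE7, chevE8]) : chkNAct D = true := by
  simp only [List.mem_cons, List.not_mem_nil, or_false] at hD
  rcases hD with rfl | rfl | rfl | rfl | rfl | rfl | rfl
  exacts [chkNAct_G2, chkNAct_B2, chkNAct_D4, chkNAct_F4, chkNAct_E6, chkNAct_E7, chkNAct_E8]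

end CfsgLib.SteinbergPres
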