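import Cfsg.Agent.SteinbergPres.Center
import Cfsg.Agent.SteinbergPres.NActData
import Cfsg.Agent.Chevalley.Frames
/-!
The seven data.
-/

set_option autoImplicit false

namespace CfsgLib.SteinbergPres

open Cfsg.Lie CfsgLib.Chevalley
open scoped MatrixGroups

theorem goodPres_of_mem {D : ChevalleyDatum}
    (hD : D ∈ [chevG2, chevB2, chevD4, chevF4, chevE6, chevE7, chevE8]) : GoodPres D :=
  ⟨goodWeyl_of_mem hD, chkNAct_of_mem hD, ChevCollect.exists_wit hD⟩

variable {D : ChevalleyDatum} {K : Type*} [Field K]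

theorem map_xb (hP : GoodPres D) {θ : D.SteinbergGroup K →* ↥(D.group K)}
    (hθ : ∀ (r : ℕ) (t : K), r < D.nroots →
      ((θ (D.stGen K r t) : GL D.Idx K) : Matrix D.Idx D.Idx K) = D.x K r t)
    (r : Root D) (t : K) : (D.group K).subtype.comp θ (xb r t) = X hP.good r t :=
  (coe_eq_x_iff hP.good r.isLt).1 (hθ r t r.isLt)

/-- The surjection onto the Chevalley group whose kernel is the centre. -/
theorem exists_surjection (hD : D ∈ [chevG2, chevB2, chevD4, chevF4, chevE6, chevE7, chevE8]) :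
    ∃ θ : D.SteinbergGroup K →* ↥(D.group K), Function.Surjective θ ∧
      θ.ker = Subgroup.center (D.SteinbergGroup K) ∧
      ∀ (r : ℕ) (t : K), r < D.nroots →
        ((θ (D.stGen K r t) : GL D.Idx K) : Matrix D.Idx D.Idx K) = D.x K r t := by
  have hP := goodPres_of_mem hD
  obtain ⟨C, M, R, h⟩ := exists_rootGood_of_mem hD
  obtain ⟨f, hf⟩ := exists_hom (K := K) hP.toGoodWeyl
  have hr := range_eq_group hP.toGoodWeyl hf
  let θ : D.SteinbergGroup K →* ↥(D.group K) := f.codRestrict _ fun x => hr ▸ ⟨x, rfl⟩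
  refine ⟨θ, fun g => ?_, ?_, fun r t hlt => ?_⟩
  · have hg : (g : GL D.Idx K) ∈ f.range := by rw [hr]; exact g.2
    obtain ⟨x, hx⟩ := hg
    exact ⟨x, Subtype.ext hx⟩
  · rw [← ker_eq_center hP h hf]
    exact MonoidHom.ker_codRestrict f _ _
  · exact (coe_eq_x_iff hP.good hlt).2 (hf ⟨r, hlt⟩ t)

end CfsgLib.SteinbergPres
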