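import Cfsg.Agent.SteinbergPres.Embedding
/-!
The tables of type E7 sit inside those of type E8.
-/

set_option autoImplicit false

namespace CfsgLib.SteinbergPres

open Cfsg.Lie

/-- The index in type E8 of each root of type E7. -/
def embE7 : List ℕ := [
  13, 20, 25, 29, 32, 34, 35, 39, 42, 44, 45, 48, 50, 51, 53, 54,
  55, 58, 60, 61, 63, 64, 65, 67, 68, 69, 70, 72, 73, 74, 75, 76,
  77, 80, 82, 83, 85, 86, 87, 89, 90, 91, 92, 94, 95, 96, 97, 98,
  100, 101, 102, 103, 104, 106, 107, 108, 109, 111, 112, 113, 115, 116, 118, 121,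
  123, 124, 126, 127, 128, 130, 131, 132, 133, 135, 136, 137, 138, 139, 141, 142,
  143, 144, 145, 147, 148, 149, 150, 152, 153, 154, 156, 157, 159, 162, 163, 164,
  165, 166, 167, 169, 170, 171, 172, 174, 175, 176, 178, 179, 181, 184, 185, 186,
  188, 189, 191, 194, 195, 197, 200, 204, 205, 207, 210, 214, 219, 226]

/-- The partial inverse of `embE7`, with 126 for the other roots. -/
def invE7 : List ℕ := [
  126, 126, 126, 126, 126, 126, 126, 126, 126, 126, 126, 126, 126, 0, 126, 126,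
  126, 126, 126, 126, 1, 126, 126, 126, 126, 2, 126, 126, 126, 3, 126, 126,
  4, 126, 5, 6, 126, 126, 126, 7, 126, 126, 8, 126, 9, 10, 126, 126,
  11, 126, 12, 13, 126, 14, 15, 16, 126, 126, 17, 126, 18, 19, 126, 20,
  21, 22, 126, 23, 24, 25, 26, 126, 27, 28, 29, 30, 31, 32, 126, 126,
  33, 126, 34, 35, 126, 36, 37, 38, 126, 39, 40, 41, 42, 126, 43, 44,
  45, 46, 47, 126, 48, 49, 50, 51, 52, 126, 53, 54, 55, 56, 126, 57,
  58, 59, 126, 60, 61, 126, 62, 126, 126, 63, 126, 64, 65, 126, 66, 67,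
  68, 126, 69, 70, 71, 72, 126, 73, 74, 75, 76, 77, 126, 78, 79, 80,
  81, 82, 126, 83, 84, 85, 86, 126, 87, 88, 89, 126, 90, 91, 126, 92,
  126, 126, 93, 94, 95, 96, 97, 98, 126, 99, 100, 101, 102, 126, 103, 104,
  105, 126, 106, 107, 126, 108, 126, 126, 109, 110, 111, 126, 112, 113, 126, 114,
  126, 126, 115, 116, 126, 117, 126, 126, 118, 126, 126, 126, 119, 120, 126, 121,
  126, 126, 122, 126, 126, 126, 123, 126, 126, 126, 126, 124, 126, 126, 126, 126,
  126, 126, 125, 126, 126, 126, 126, 126, 126, 126, 126, 126, 126, 126, 126, 126]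

theorem chkSub_E7 : chkSub chevE7 chevE8 embE7 invE7 = true := by decide +kernel

end CfsgLib.SteinbergPres
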