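import Cfsg.Agent.SteinbergPres.SubE6
import Cfsg.Agent.SteinbergPres.SubE7
/-!
The centre of the presented group for G₂, F₄, E₈ and its order for E₆, E₇.
-/

set_option autoImplicit false

namespace CfsgLib.SteinbergPres

open Cfsg.Lie CfsgLib.Chevalley CfsgLib.ChevTorus

theorem cartanInv_G2 : (Matrix.of fun k j : Fin 2 => chevG2.cartan k (chevG2.simple j)) *
    (!![2, 3; 1, 2] : Matrix (Fin 2) (Fin 2) ℤ) = 1 := by decide +kernel

theorem cartanInv_F4 : (Matrix.of fun k j : Fin 4 => chevF4.cartan k (chevF4.simple j)) *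
    (!![2, 3, 4, 2; 3, 6, 8, 4; 2, 4, 6, 3; 1, 2, 3, 2] : Matrix (Fin 4) (Fin 4) ℤ) = 1 := by
  decide +kernel

theorem cartanInv_E8 : (Matrix.of fun k j : Fin 8 => chevE8.cartan k (chevE8.simple j)) *
    (!![4, 5, 7, 10, 8, 6, 4, 2; 5, 8, 10, 15, 12, 9, 6, 3; 7, 10, 14, 20, 16, 12, 8, 4;
      10, 15, 20, 30, 24, 18, 12, 6; 8, 12, 16, 24, 20, 15, 10, 5; 6, 9, 12, 18, 15, 12, 8, 4;
      4, 6, 8, 12, 10, 8, 6, 3; 2, 3, 4, 6, 5, 4, 3, 2] : Matrix (Fin 8) (Fin 8) ℤ) = 1 := by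
  decide +kernel

theorem subInv_E7 :
    (Matrix.of fun (k : Fin 6) (j : Fin 7) => chevE7.cartan k (chevE7.simple j)) *
      (!![-2, 1, -1, 0, 0, 0; -4, 2, -2, 0, 0, 0; -5, 2, -2, 0, 0, 0; -8, 3, -4, 0, 0, 0;
        -7, 2, -4, -1, 0, 0; -6, 1, -4, -2, -1, 0; -5, 0, -4, -3, -2, -1] :
        Matrix (Fin 7) (Fin 6) ℤ) = 1 := by
  decide +kernel

theorem subInv_E8 :
    (Matrix.of fun (k : Fin 7) (j : Fin 8) => chevE8.cartan k (chevE8.simple j)) *
      (!![-2, 1, -1, 0, 0, 0, 0; -4, 2, -2, 0, 0, 0, 0; -5, 2, -2, 0, 0, 0, 0;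
        -8, 3, -4, 0, 0, 0, 0; -7, 2, -4, -1, 0, 0, 0; -6, 1, -4, -2, -1, 0, 0;
        -5, 0, -4, -3, -2, -1, 0; -4, -1, -4, -4, -3, -2, -1] :
        Matrix (Fin 8) (Fin 7) ℤ) = 1 := by
  decide +kernel

variable {K : Type*} [Field K]

theorem center_trivial (D : ChevalleyDatum) (hD : D ∈ [chevG2, chevF4, chevE8]) :
    Subgroup.center (D.SteinbergGroup K) = ⊥ := by
  have hD' : D ∈ [chevG2, chevB2, chevD4, chevF4, chevE6, chevE7, chevE8] := by
    simp only [List.mem_cons, List.not_mem_nil, or_false] at hD ⊢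
    tauto
  obtain ⟨C, M, R, h⟩ := exists_rootGood_of_mem hD'
  simp only [List.mem_cons, List.not_mem_nil, or_false] at hD
  rcases hD with rfl | rfl | rfl
  · exact center_eq_bot (goodPres_of_mem hD') h cartanInv_G2
  · exact center_eq_bot (goodPres_of_mem hD') h cartanInv_F4
  · exact center_eq_bot (goodPres_of_mem hD') h cartanInv_E8

theorem card_center_eq {D : ChevalleyDatum} (hP : GoodPres D) {C : Weyl.Cert D.rank}
    {M : CoxeterMatrix (Fin D.rank)} {R : Weyl.RootTable} (h : Weyl.RootGood C M R) [Fintype K]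
    (hinj : Function.Injective (hbTor (K := K) hP))
    {P P' Q Q' : Matrix (Fin D.rank) (Fin D.rank) ℤ} {d : Fin D.rank → ℕ}
    (hd : P * P' = 1 ∧ P' * P = 1 ∧ Q * Q' = 1 ∧
      P * cartanMat D * Q = Matrix.diagonal fun i => (d i : ℤ)) :
    Nat.card (Subgroup.center (D.SteinbergGroup K)) =
      ∏ i, (Fintype.card K - 1).gcd (d i) := by
  classical
  rw [center_eq_map hP h,
    ← Nat.card_congr (Subgroup.equivMapOfInjective _ _ hinj).toEquiv, card_ker_monAct hd,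
    Nat.card_units, Nat.card_eq_fintype_card]

theorem card_center {q : ℕ} [Fintype K] (hq : Fintype.card K = q) (p : ChevalleyDatum × ℕ)
    (hp : p ∈ [(chevE6, 3), (chevE7, 2)]) :
    Nat.card (Subgroup.center (p.1.SteinbergGroup K)) = Nat.gcd p.2 (q - 1) := by
  simp only [List.mem_cons, List.not_mem_nil, or_false] at hp
  have hE6 : chevE6 ∈ [chevG2, chevB2, chevD4, chevF4, chevE6, chevE7, chevE8] := by simp
  have hE7 : chevE7 ∈ [chevG2, chevB2, chevD4, chevF4, chevE6, chevE7, chevE8] := by simp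
  have hE8 : chevE8 ∈ [chevG2, chevB2, chevD4, chevF4, chevE6, chevE7, chevE8] := by simp
  rcases hp with rfl | rfl
  · obtain ⟨C, M, R, h⟩ := exists_rootGood_of_mem hE6
    refine (card_center_eq (goodPres_of_mem hE6) h
      (hbTor_injective_of_sub (D' := chevE7) _ (goodWeyl_of_mem hE7) chkSub_E6 (by decide)
        subInv_E7) smithE6).trans ?_
    subst hq
    show ∏ i : Fin 6, (Fintype.card K - 1).gcd ((![1, 1, 1, 1, 1, 3] : Fin 6 → ℕ) i) =
      Nat.gcd 3 (Fintype.card K - 1)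
    simp [Fin.prod_univ_succ, Nat.gcd_comm]
  · obtain ⟨C, M, R, h⟩ := exists_rootGood_of_mem hE7
    refine (card_center_eq (goodPres_of_mem hE7) h
      (hbTor_injective_of_sub (D' := chevE8) _ (goodWeyl_of_mem hE8) chkSub_E7 (by decide)
        subInv_E8) smithE7).trans ?_
    subst hq
    show ∏ i : Fin 7, (Fintype.card K - 1).gcd ((![1, 1, 1, 1, 1, 1, 2] : Fin 7 → ℕ) i) =
      Nat.gcd 2 (Fintype.card K - 1)
    simp [Fin.prod_univ_succ, Nat.gcd_comm]

end CfsgLib.SteinbergPres
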