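import Cfsg.Agent.SteinbergPres.TorusKernel
import Cfsg.Agent.ChevSubfield.Fixed
/-!
Field homomorphisms on the presented group. An element of the presented group fixed by a field
endomorphism maps into the group generated by the root elements with fixed parameters, provided
`c ↦ ∏ h̄_k(c_k)` is injective.
-/

set_option autoImplicit false

namespace CfsgLib.SteinbergPres

open Cfsg.Lie CfsgLib.Chevalley
open scoped MatrixGroups

variable {D : ChevalleyDatum} {F F' : Type*} [Field F] [Field F']

theorem exists_stMap (D : ChevalleyDatum) (σ : F →+* F') :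
    ∃ φ : D.SteinbergGroup F →* D.SteinbergGroup F',
      ∀ (r : Root D) (t : F), φ (xb r t) = xb r (σ t) := by
  let x : ℕ → F → D.SteinbergGroup F' := fun r t => D.stGen F' r (σ t)
  have hl := ChevCollect.lift_stX D (x := x) fun r hr t => ChevCollect.stGen_out D hr _
  have hR := stRels (D := D) (K := F')
  refine ⟨PresentedGroup.toGroup (f := fun p : Fin D.nroots × F => x p.1 p.2) ?_,
    fun r t => hl r t⟩
  rintro g ((⟨r, t, u, hr, rfl⟩ | ⟨r, s, t, u, hr, hs, h1, h2, rfl⟩) | ⟨r, t, u, hr, ht, hu, rfl⟩)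
  · simp only [map_mul, map_inv, hl]
    simp only [x, map_add, hR.add r hr, mul_inv_cancel]
  · simp only [map_mul, map_inv, ChevCollect.stWord_map, hl]
    simp only [x]
    have e : ((D.commWord F r s t u).map fun p => D.stGen F' p.1 (σ p.2)) =
        (D.commWord F' r s (σ t) (σ u)).map fun p => D.stGen F' p.1 p.2 := by
      simp [ChevalleyDatum.commWord, List.map_map, Function.comp_def]
    rw [e, ← hR.comm r s (σ t) (σ u) hr hs h1 h2, mul_inv_cancel]
  · have hh : ∀ a : F, FreeGroup.lift (fun p : Fin D.nroots × F => x p.1 p.2) (D.stH r a) =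
        PresentedGroup.mk (D.steinbergRels F') (D.stH r (σ a)) := fun a => by
      rw [ChevalleyDatum.stH, ChevalleyDatum.stH, ChevCollect.stWord_map, ChevCollect.stWord_map]
      simp only [hl]
      simp [x, ChevalleyDatum.hWord, ChevalleyDatum.nWord, ChevalleyDatum.stGen]
    have h3 : PresentedGroup.mk (D.steinbergRels F')
        (D.stH r (σ t) * D.stH r (σ u) * (D.stH r (σ t * σ u))⁻¹) = 1 :=
      PresentedGroup.one_of_mem (Or.inr ⟨r, σ t, σ u, hr, by simpa using ht, by simpa using hu, rfl⟩)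
    simpa [hh] using h3

/-- The map of the presented groups induced by a field homomorphism. -/
noncomputable def stMap (D : ChevalleyDatum) (σ : F →+* F') :
    D.SteinbergGroup F →* D.SteinbergGroup F' := (exists_stMap D σ).choose

theorem stMap_xb (σ : F →+* F') (r : Root D) (t : F) : stMap D σ (xb r t) = xb r (σ t) :=
  (exists_stMap D σ).choose_spec r t

theorem stMap_nb (hW : GoodWeyl D) (σ : F →+* F') (i : Fin D.rank) (t : Fˣ) :
    stMap D σ (nb hW i t) = nb hW i (Units.map σ.toMonoidHom t) := by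
  simp [nb, stMap_xb]

theorem stMap_hb (hW : GoodWeyl D) (σ : F →+* F') (i : Fin D.rank) (t : Fˣ) :
    stMap D σ (hb hW i t) = hb hW i (Units.map σ.toMonoidHom t) := by
  have h1 : Units.map σ.toMonoidHom (-1 : Fˣ) = -1 := Units.ext (by simp)
  rw [hb, map_mul, stMap_nb, stMap_nb, h1, hb]

theorem stMap_hbTor (hP : GoodPres D) (σ : F →+* F') (c : Fin D.rank → Fˣ) :
    stMap D σ (hbTor hP c) = hbTor hP fun k => Units.map σ.toMonoidHom (c k) := by
  let m : (Fin D.rank → Fˣ) →* (Fin D.rank → F'ˣ) :=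
    MonoidHom.mk' (fun c k => Units.map σ.toMonoidHom (c k)) fun a b => by funext k; simp
  have h : (stMap D σ).comp (hbTor hP) = (hbTor hP).comp m := MonoidHom.pi_ext fun i t => by
    rw [MonoidHom.comp_apply, MonoidHom.comp_apply, hbTor_single, stMap_hb]
    have : m (Pi.mulSingle i t) = Pi.mulSingle i (Units.map σ.toMonoidHom t) := by
      funext k
      exact Pi.apply_mulSingle (fun _ => ⇑(Units.map σ.toMonoidHom)) (fun _ => map_one _) i t k
    rw [this, hbTor_single]
  exact DFunLike.congr_fun h c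

/-- The map onto root elements commutes with field homomorphisms. -/
theorem map_stMap (hW : GoodWeyl D) {f : D.SteinbergGroup F →* GL D.Idx F}
    {f' : D.SteinbergGroup F' →* GL D.Idx F'} (hf : ∀ r t, f (xb r t) = X hW.good r t)
    (hf' : ∀ r t, f' (xb r t) = X hW.good r t) (σ : F →+* F') (x : D.SteinbergGroup F) :
    f' (stMap D σ x) = Matrix.GeneralLinearGroup.map σ (f x) := by
  have h : f'.comp (stMap D σ) = (Matrix.GeneralLinearGroup.map σ).comp f := by
    refine MonoidHom.eq_of_eqOn_dense (closure_xb (D := D) (K := F)) ?_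
    rintro _ ⟨r, t, rfl⟩
    rw [MonoidHom.comp_apply, MonoidHom.comp_apply, stMap_xb, hf', hf, X_map]
  exact DFunLike.congr_fun h x

/-- The subgroup generated by the generators with fixed parameters. -/
def fixGen (D : ChevalleyDatum) (σ : F →+* F) : Subgroup (D.SteinbergGroup F) :=
  Subgroup.closure {g | ∃ r t, σ t = t ∧ xb r t = g}

variable {σ : F →+* F}

theorem xb_mem_fixGen (r : Root D) {t : F} (ht : σ t = t) : xb r t ∈ fixGen D σ :=
  Subgroup.subset_closure ⟨r, t, ht, rfl⟩

theorem stMap_fixGen {g : D.SteinbergGroup F} (hg : g ∈ fixGen D σ) : stMap D σ g = g := by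
  induction hg using Subgroup.closure_induction with
  | mem x hx => obtain ⟨r, t, ht, rfl⟩ := hx; rw [stMap_xb, ht]
  | one => simp
  | mul x y _ _ hx hy => rw [map_mul, hx, hy]
  | inv x _ hx => rw [map_inv, hx]

theorem nb_mem_fixGen (hW : GoodWeyl D) (i : Fin D.rank) {t : Fˣ} (ht : σ t = t) :
    nb hW i t ∈ fixGen D σ := by
  refine mul_mem (mul_mem (xb_mem_fixGen _ ht) (xb_mem_fixGen _ ?_)) (xb_mem_fixGen _ ht)
  rw [map_neg, Units.val_inv_eq_inv_val, map_inv₀, ht]

theorem hbTor_mem_fixGen (hP : GoodPres D) {c : Fin D.rank → Fˣ} (hc : ∀ k, σ (c k) = c k) :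
    hbTor hP c ∈ fixGen D σ := by
  suffices H : c ∈ (fixGen D σ).comap (hbTor hP) from H
  refine Subgroup.pi_mem_of_mulSingle_mem c fun i => ?_
  rw [Subgroup.mem_comap, hbTor_single]
  exact mul_mem (nb_mem_fixGen _ i (hc i)) (nb_mem_fixGen _ i (by simp))

theorem map_fixGen (hW : GoodWeyl D) {f : D.SteinbergGroup F →* GL D.Idx F}
    (hf : ∀ r t, f (xb r t) = X hW.good r t) :
    (fixGen D σ).map f = ChevSubfield.fixElem hW.good σ := by
  rw [fixGen, MonoidHom.map_closure, ChevSubfield.fixElem]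
  congr 1
  ext g
  constructor
  · rintro ⟨_, ⟨r, t, ht, rfl⟩, rfl⟩; exact ⟨r, t, ht, (hf r t).symm⟩
  · rintro ⟨r, t, ht, rfl⟩; exact ⟨_, ⟨r, t, ht, rfl⟩, hf r t⟩

variable {C : Weyl.Cert D.rank} {M : CoxeterMatrix (Fin D.rank)} {R : Weyl.RootTable}

/-- The fixed points of the presented group are generated by the fixed generators. -/
theorem fixed_eq_fixGen (hP : GoodPres D) (h : Weyl.RootGood C M R)
    (hinj : Function.Injective (hbTor (K := F) hP)) {x : D.SteinbergGroup F}
    (hx : stMap D σ x = x) : x ∈ fixGen D σ := by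
  have hW := hP.toGoodWeyl
  obtain ⟨f, hf⟩ := exists_hom (K := F) hW
  have hfx : f x ∈ D.group F := range_eq_group hW hf ▸ ⟨x, rfl⟩
  have hfix : ChevSubfield.gmap D σ (f x) = f x := by rw [← map_stMap hW hf hf σ x, hx]
  obtain ⟨l, hl, k, hk, -, e⟩ := ChevSubfield.exists_fixed_eq σ hW h hfx hfix
  rw [← map_fixGen hW hf] at hl
  obtain ⟨l', hl', rfl⟩ := hl
  rw [diagonalSubgroup_eq_range hW] at hk
  obtain ⟨c₀, rfl⟩ := hk
  have hker : f (l'⁻¹ * x * (hbTor hP c₀)⁻¹) = 1 := by
    rw [map_mul, map_mul, map_inv, map_inv, e, map_hbTor hP hf]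
    show (f l')⁻¹ * (f l' * torC D c₀) * (torC D c₀)⁻¹ = 1
    group
  have hmem := mul_mem (mem_hBar_of_map_eq_one hP h hf hker)
    (show hbTor (K := F) hP c₀ ∈ hBar hW from (hBar_eq_range (K := F) hP).symm ▸ ⟨c₀, rfl⟩)
  rw [inv_mul_cancel_right, hBar_eq_range hP] at hmem
  obtain ⟨c, hc⟩ := hmem
  have hcfix : ∀ k, σ (c k) = c k := by
    have h1 : stMap D σ (hbTor hP c) = hbTor hP c := by
      rw [hc, map_mul, map_inv, hx, stMap_fixGen hl']
    rw [stMap_hbTor] at h1
    exact fun k => congrArg Units.val (congrFun (hinj h1) k)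
  have := mul_mem hl' (hbTor_mem_fixGen hP hcfix)
  rwa [hc, mul_inv_cancel_left] at this

/-- Images of fixed points lie in the group of fixed root elements. -/
theorem map_mem_fixElem (hP : GoodPres D) (h : Weyl.RootGood C M R)
    (hinj : Function.Injective (hbTor (K := F) hP)) {f : D.SteinbergGroup F →* GL D.Idx F}
    (hf : ∀ r t, f (xb r t) = X hP.good r t) {x : D.SteinbergGroup F} (hx : stMap D σ x = x) :
    f x ∈ ChevSubfield.fixElem hP.good σ :=
  map_fixGen hP.toGoodWeyl hf ▸ Subgroup.mem_map_of_mem f (fixed_eq_fixGen hP h hinj hx)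

end CfsgLib.SteinbergPres
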