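import Cfsg.Agent.SteinbergPres.Main
/-!
The centre of the presented group inside the torus.
-/

set_option autoImplicit false

namespace CfsgLib.SteinbergPres

open Cfsg.Lie CfsgLib.Chevalley CfsgLib.ChevTorus
open scoped MatrixGroups

variable {D : ChevalleyDatum} {K : Type*} [Field K]

theorem torHom_single (hW : GoodWeyl D) (i : Fin D.rank) (t : Kˣ) :
    torHom D K (Pi.mulSingle i t) = hT K (pRoot hW i) t := by
  show torC D (Pi.mulSingle i t) = _
  simp only [torC, hT]
  congr 1
  funext s
  rw [hW.pairing_pRoot, Finset.prod_eq_single i (fun k _ hk => by simp [Pi.mulSingle_eq_of_ne hk])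
    (by simp)]
  simp

/-- The image of `∏ h̄_k(c_k)`. -/
theorem map_hbTor (hP : GoodPres D) {f : D.SteinbergGroup K →* GL D.Idx K}
    (hf : ∀ r t, f (xb r t) = X hP.good r t) (c : Fin D.rank → Kˣ) :
    f (hbTor hP c) = torC D c := by
  have h : f.comp (hbTor hP) = torHom D K := MonoidHom.pi_ext fun i t => by
    rw [MonoidHom.comp_apply, hbTor_single, map_hb hP.toGoodWeyl hf,
      torHom_single hP.toGoodWeyl]
  exact DFunLike.congr_fun h c

/-- A family of units killed by the monomials of an integer matrix with a right inverse is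
trivial. -/
theorem eq_one_of_right_inverse {ι κ : Type*} [Fintype ι] [Fintype κ] [DecidableEq ι] {G : Type*}
    [CommGroup G] {A : Matrix ι κ ℤ} {L : Matrix κ ι ℤ} (h : A * L = 1) {c : ι → G}
    (hc : ∀ j, ∏ k, c k ^ A k j = 1) : c = 1 := by
  funext i
  have e : ∏ k, c k ^ (A * L) k i = ∏ j, (∏ k, c k ^ A k j) ^ L j i := by
    simp only [Matrix.mul_apply, ← Finset.prod_zpow, ← zpow_mul]
    rw [Finset.prod_comm]
    refine Finset.prod_congr rfl fun k _ => ?_
    induction (Finset.univ : Finset κ) using Finset.cons_induction with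
    | empty => simp
    | cons a S ha ih => rw [Finset.sum_cons, Finset.prod_cons, zpow_add, ih]
  rw [h] at e
  simp only [hc, one_zpow, Finset.prod_const_one] at e
  rw [Pi.one_apply, ← e, Finset.prod_eq_single i (fun k _ hk => by
    rw [Matrix.one_apply_ne hk, zpow_zero]) (by simp), Matrix.one_apply_eq, zpow_one]

variable {C : Weyl.Cert D.rank} {M : CoxeterMatrix (Fin D.rank)} {R : Weyl.RootTable}

/-- The centre is the image of the tuples killed by the Cartan matrix. -/
theorem center_eq_map (hP : GoodPres D) (h : Weyl.RootGood C M R) :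
    Subgroup.center (D.SteinbergGroup K) =
      (monAct (G := Kˣ) (cartanMat D)).ker.map (hbTor hP) := by
  obtain ⟨f, hf⟩ := exists_hom (K := K) hP.toGoodWeyl
  rw [← ker_eq_center hP h hf]
  ext g
  constructor
  · intro hg
    have hg' := mem_hBar_of_map_eq_one hP h hf (MonoidHom.mem_ker.1 hg)
    rw [hBar_eq_range hP] at hg'
    obtain ⟨c, rfl⟩ := hg'
    rw [MonoidHom.mem_ker, map_hbTor hP hf] at hg
    exact ⟨c, (torC_eq_one_iff hP.toGoodWeyl c).1 hg, rfl⟩
  · rintro ⟨c, hc, rfl⟩
    rw [MonoidHom.mem_ker, map_hbTor hP hf]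
    exact (torC_eq_one_iff hP.toGoodWeyl c).2 hc

/-- The centre is trivial when the Cartan matrix is invertible. -/
theorem center_eq_bot (hP : GoodPres D) (h : Weyl.RootGood C M R)
    {L : Matrix (Fin D.rank) (Fin D.rank) ℤ} (hL : cartanMat D * L = 1) :
    Subgroup.center (D.SteinbergGroup K) = ⊥ := by
  rw [center_eq_map hP h, Subgroup.map_eq_bot_iff]
  intro c hc
  have : c = 1 := eq_one_of_right_inverse hL fun j => congrFun (MonoidHom.mem_ker.1 hc) j
  rw [this]
  exact one_mem _

end CfsgLib.SteinbergPres
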