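import Cfsg.Agent.ChevCollect.NAct
import Cfsg.Agent.Chevalley.WeylChecks
import Cfsg.Prelude.Def_ChevG2
import Cfsg.Prelude.Def_ChevB2
import Cfsg.Prelude.Def_ChevD4
import Cfsg.Prelude.Def_ChevF4
import Cfsg.Prelude.Def_ChevE6
/-!
Certified conjugation of root elements by `n_i(t)` from the relations (R1), (R2): for every root
other than `± α_i` collection gives the reflected root, the sign `η` and minus the Cartan integer.
-/

set_option autoImplicit false

namespace CfsgLib.SteinbergPres

open Cfsg.Lie CfsgLib.Chevalley

/-- The check at the `i`-th fundamental root. -/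
def chkNActAt (D : ChevalleyDatum) (i : ℕ) : Bool :=
  (List.range D.nroots).all fun s =>
    s == D.simple i || s == opp D (D.simple i) ||
      ChevCollect.nAct D (D.simple i) s == some (reflT D i s, etaT D i s, -cartanT D i s)

/-- The check at every fundamental root. -/
def chkNAct (D : ChevalleyDatum) : Bool := (List.range D.rank).all (chkNActAt D)

theorem chkNAct_G2 : chkNAct chevG2 = true := by decide +kernel
theorem chkNAct_B2 : chkNAct chevB2 = true := by decide +kernel
theorem chkNAct_D4 : chkNAct chevD4 = true := by decide +kernel
theorem chkNAct_F4 : chkNAct chevF4 = true := by decide +kernel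
theorem chkNAct_E6 : chkNAct chevE6 = true := by decide +kernel

end CfsgLib.SteinbergPres
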