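import Cfsg.Agent.ChevCollect.Presented
import Cfsg.Agent.SteinbergPres.NActCheck
import Cfsg.Agent.Chevalley.Monomial
/-!
Root elements of the presented group, the elements `n_i(t)`, `h_i(t)` and their actions on the
root elements.
-/

set_option autoImplicit false

namespace CfsgLib.SteinbergPres

open Cfsg.Lie CfsgLib.Chevalley

variable {D : ChevalleyDatum} {K : Type*} [Field K]

/-- The data that the argument needs: good tables and checked conjugation by the `n_i(t)`. -/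
structure GoodPres (D : ChevalleyDatum) : Prop extends GoodWeyl D where
  nact : chkNAct D = true
  wit : ∃ W, ChevCollect.wXAll D W = true

/-- The generator `x̄_r(t)`. -/
def xb (r : Root D) (t : K) : D.SteinbergGroup K := D.stGen K r t

/-- The generators of the presented group satisfy (R1), (R2). -/
theorem stRels : ChevCollect.StRels D (D.stGen K) where
  add r hr t u := by
    have h : PresentedGroup.mk (D.steinbergRels K)
        (D.stX r t * D.stX r u * (D.stX r (t + u))⁻¹) = 1 :=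
      PresentedGroup.one_of_mem (Or.inl (Or.inl ⟨r, t, u, hr, rfl⟩))
    rw [map_mul, map_mul, map_inv, mul_inv_eq_one] at h
    exact h.symm
  comm r s t u hr hs h1 h2 := by
    have h : PresentedGroup.mk (D.steinbergRels K)
        ((D.stX s u)⁻¹ * (D.stX r t)⁻¹ * D.stX s u * D.stX r t *
          (D.stWord (D.commWord K r s t u))⁻¹) = 1 :=
      PresentedGroup.one_of_mem (Or.inl (Or.inr ⟨r, s, t, u, hr, hs, h1, h2, rfl⟩))
    rw [map_mul, map_inv, mul_inv_eq_one, ChevCollect.stWord_map] at h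
    simpa [ChevalleyDatum.stGen] using h

theorem xb_mul (r : Root D) (t u : K) : xb r t * xb r u = xb r (t + u) :=
  (stRels.add r r.isLt t u).symm

theorem xb_zero (r : Root D) : xb r (0 : K) = 1 := ChevCollect.x_zero stRels r.isLt

theorem xb_inv (r : Root D) (t : K) : (xb r t)⁻¹ = xb r (-t) :=
  (ChevCollect.x_neg stRels r.isLt t).symm

theorem xb_eq_stGen {r : ℕ} (hr : r < D.nroots) (t : K) : D.stGen K r t = xb ⟨r, hr⟩ t := rfl

/-- `n̄_i(t) = x̄_α(t) x̄_{-α}(-t⁻¹) x̄_α(t)` for `α` the `i`-th fundamental root. -/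
def nb (hW : GoodWeyl D) (i : Fin D.rank) (t : Kˣ) : D.SteinbergGroup K :=
  xb (pRoot hW i) (t : K) * xb (pRoot hW i).rev (-(t⁻¹ : Kˣ) : K) * xb (pRoot hW i) (t : K)

/-- `h̄_i(t) = n̄_i(t) n̄_i(-1)`. -/
def hb (hW : GoodWeyl D) (i : Fin D.rank) (t : Kˣ) : D.SteinbergGroup K :=
  nb hW i t * nb hW i (-1)

theorem nb_eq_nEl (hW : GoodWeyl D) (i : Fin D.rank) (t : Kˣ) :
    nb hW i t = ChevCollect.nEl D (D.stGen K) (D.simple i) (t : K) := by
  have h : D.neg (D.simple i) = ((pRoot hW i).rev : ℕ) := hW.good.neg_fin (pRoot hW i)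
  rw [nb, ChevCollect.nEl, h, Units.val_inv_eq_inv_val]
  rfl

theorem mk_stH_eq (hW : GoodWeyl D) (i : Fin D.rank) (t : Kˣ) :
    PresentedGroup.mk (D.steinbergRels K) (D.stH (D.simple i) (t : K)) = hb hW i t := by
  rw [ChevalleyDatum.stH, ChevCollect.stWord_map, hb, nb_eq_nEl, nb_eq_nEl,
    ChevalleyDatum.hWord, ChevalleyDatum.nWord, ChevalleyDatum.nWord]
  simp [ChevCollect.nEl, ChevalleyDatum.stGen, mul_assoc]

theorem nb_neg (hW : GoodWeyl D) (i : Fin D.rank) (t : Kˣ) :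
    nb (K := K) hW i (-t) = (nb hW i t)⁻¹ := by
  simp [nb, mul_inv_rev, xb_inv, mul_assoc, Units.val_neg]

theorem hb_one (hW : GoodWeyl D) (i : Fin D.rank) : hb (K := K) hW i 1 = 1 := by
  rw [hb, nb_neg, mul_inv_cancel]

/-- Relator (R3). -/
theorem hb_mul (hW : GoodWeyl D) (i : Fin D.rank) (t u : Kˣ) :
    hb hW i t * hb hW i u = hb hW i (t * u) := by
  have h : PresentedGroup.mk (D.steinbergRels K)
      (D.stH (D.simple i) (t : K) * D.stH (D.simple i) (u : K) *
        (D.stH (D.simple i) ((t : K) * (u : K)))⁻¹) = 1 :=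
    PresentedGroup.one_of_mem
      (Or.inr ⟨_, _, _, hW.good.simple_lt i.isLt, t.ne_zero, u.ne_zero, rfl⟩)
  rw [map_mul, map_mul, map_inv, mul_inv_eq_one, mk_stH_eq hW, mk_stH_eq hW, ← Units.val_mul,
    mk_stH_eq hW] at h
  exact h

theorem nb_eq_hb_mul (hW : GoodWeyl D) (i : Fin D.rank) (t : Kˣ) :
    nb hW i t = hb hW i t * nb hW i 1 := by
  rw [hb, nb_neg, inv_mul_cancel_right]

theorem nb_mul_inv (hW : GoodWeyl D) (i : Fin D.rank) (t u : Kˣ) :
    nb hW i t * (nb hW i u)⁻¹ = hb hW i t * (hb hW i u)⁻¹ := by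
  rw [nb_eq_hb_mul hW i t, nb_eq_hb_mul hW i u, mul_inv_rev, ← mul_assoc, mul_inv_cancel_right]

variable (hP : GoodPres D)
include hP

/-- Conjugation of every root element by `n̄_i(t)`. -/
theorem nb_conj_xb (i : Fin D.rank) (t : Kˣ) (s : Root D) (u : K) :
    nb hP.toGoodWeyl i t * xb s u * (nb hP.toGoodWeyl i t)⁻¹ =
      xb (wPerm hP.toGoodWeyl i s)
        ((eta D i s : K) * ((t ^ (-D.cartan i s) : Kˣ) : K) * u) := by
  have hW := hP.toGoodWeyl
  set a := pRoot hW i with ha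
  obtain ⟨W, hWit⟩ := hP.wit
  have hwX : ∀ (t : Kˣ) (v : K), nb hW i t * xb a v * (nb hW i t)⁻¹ =
      xb a.rev (-(((t⁻¹ : Kˣ) : K) ^ 2 * v)) := by
    intro t v
    have hw : ChevCollect.wXCheck D a (W.getD a (0, 0)) = true :=
      List.all_eq_true.1 hWit a (List.mem_range.2 a.isLt)
    rw [nb_eq_nEl, Units.val_inv_eq_inv_val, xb, xb, ← hW.good.neg_fin a]
    exact ChevCollect.wX_of_check stRels hw t.ne_zero v
  have h2 : D.cartan i a = 2 := hW.good.cartan_simple_self i.isLt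
  by_cases h1 : s = a
  · subst h1
    rw [hwX, hW.wPerm_pRoot, hW.eta_pRoot, h2]
    congr 1
    rw [Int.cast_neg, Int.cast_one, Units.val_zpow_eq_zpow_val, zpow_neg,
      show ((2 : ℤ)) = ((2 : ℕ) : ℤ) from rfl, zpow_natCast, Units.val_inv_eq_inv_val, inv_pow]
    ring
  by_cases h3 : s = a.rev
  · subst h3
    rw [hW.wPerm_rev, hW.wPerm_pRoot, Fin.rev_rev, hW.eta_rev, hW.eta_pRoot,
      hW.good.cartan_rev, h2, neg_neg]
    have e := hwX (-t) (-((t : K) ^ 2 * u))
    have hu : -((((-t)⁻¹ : Kˣ) : K) ^ 2 * -((t : K) ^ 2 * u)) = u := by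
      rw [Units.val_inv_eq_inv_val, Units.val_neg, inv_neg, neg_sq, mul_neg, neg_neg, ← mul_assoc,
        ← mul_pow, inv_mul_cancel₀ t.ne_zero, one_pow, one_mul]
    rw [hu, nb_neg, inv_inv] at e
    rw [show ((-1 : ℤ) : K) * ((t ^ (2 : ℤ) : Kˣ) : K) * u = -((t : K) ^ 2 * u) by
      rw [Units.val_zpow_eq_zpow_val, show ((2 : ℤ)) = ((2 : ℕ) : ℤ) from rfl, zpow_natCast]
      push_cast
      ring, ← e]
    group
    rfl
  have hchk := hP.nact
  simp only [chkNAct, chkNActAt, List.all_eq_true, List.mem_range, Bool.or_eq_true,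
    beq_iff_eq] at hchk
  rcases hchk i i.isLt s s.isLt with (h | h) | h
  · exact absurd (Fin.ext (show (s : ℕ) = (a : ℕ) from h)) h1
  · refine absurd (Fin.ext (show (s : ℕ) = (a.rev : ℕ) from ?_)) h3
    rw [h, opp, Fin.val_rev]
    simp [ha, genR, gen]
    omega
  have e := ChevCollect.nAct_sound stRels h t.ne_zero u
  rw [hW.good.cartanT_eq i.isLt s.isLt] at e
  rw [nb_eq_nEl, xb, xb, e]
  congr 1
  rw [Units.val_zpow_eq_zpow_val]
  rfl

/-- Conjugation of every root element by `h̄_i(t)`. -/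
theorem hb_conj_xb (i : Fin D.rank) (t : Kˣ) (s : Root D) (u : K) :
    hb hP.toGoodWeyl i t * xb s u * (hb hP.toGoodWeyl i t)⁻¹ =
      xb s (((t ^ D.cartan i s : Kˣ) : K) * u) := by
  have hW := hP.toGoodWeyl
  rw [hb, show ∀ a b x : D.SteinbergGroup K, a * b * x * (a * b)⁻¹ = a * (b * x * b⁻¹) * a⁻¹ from
    fun a b x => by group, nb_conj_xb hP, nb_conj_xb hP, hW.wPerm_wPerm, hW.cartan_wPerm_self,
    neg_neg]
  congr 1
  have e : ((eta D i (wPerm hW i s) : K)) * (eta D i s : K) *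
      (((-1 : Kˣ) ^ (-D.cartan i s) : Kˣ) : K) = 1 := by
    rw [← Int.cast_mul, mul_comm, mul_comm (eta D i (wPerm hW i s)), hW.eta_mul_wPerm,
      Units.val_zpow_eq_zpow_val, Units.val_neg, Units.val_one, Int.cast_pow, Int.cast_neg,
      Int.cast_one, zpow_neg]
    rcases Int.natAbs_eq (D.cartan i s) with hk | hk
    · nth_rewrite 1 [hk]
      rw [zpow_natCast, inv_mul_cancel₀ (pow_ne_zero _ (neg_ne_zero.2 one_ne_zero))]
    · nth_rewrite 1 [hk]
      rw [zpow_neg, zpow_natCast, inv_inv, ← mul_pow, neg_one_mul, neg_neg, one_pow]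
  linear_combination (((t ^ D.cartan i s : Kˣ) : K) * u) * e

/-- Conjugation of `n̄_j(u)` by `h̄_i(t)`. -/
theorem hb_conj_nb (i j : Fin D.rank) (t u : Kˣ) :
    hb hP.toGoodWeyl i t * nb hP.toGoodWeyl j u * (hb hP.toGoodWeyl i t)⁻¹ =
      nb hP.toGoodWeyl j (t ^ D.cartan i (pRoot hP.toGoodWeyl j) * u) := by
  rw [nb, show ∀ n x y z : D.SteinbergGroup K,
    n * (x * y * z) * n⁻¹ = (n * x * n⁻¹) * (n * y * n⁻¹) * (n * z * n⁻¹) from
    fun n x y z => by group, hb_conj_xb hP, hb_conj_xb hP, hP.good.cartan_rev, zpow_neg, nb]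
  congr 3
  rw [mul_inv_rev, Units.val_mul, mul_neg, mul_comm]

/-- The `h̄_i(t)` commute. -/
theorem hb_comm (i j : Fin D.rank) (t u : Kˣ) :
    hb hP.toGoodWeyl i t * hb hP.toGoodWeyl j u = hb hP.toGoodWeyl j u * hb hP.toGoodWeyl i t := by
  rw [← mul_inv_eq_iff_eq_mul]
  conv_lhs => arg 1; arg 2; rw [hb]
  rw [show ∀ n x y : D.SteinbergGroup K, n * (x * y) * n⁻¹ = (n * x * n⁻¹) * (n * y * n⁻¹) from
    fun n x y => by group, hb_conj_nb hP, hb_conj_nb hP, mul_neg_one, nb_neg, nb_mul_inv,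
    mul_inv_eq_iff_eq_mul, hb_mul, mul_comm]

end CfsgLib.SteinbergPres
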