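import Cfsg.Agent.SteinbergPres.Monomial
/-!
The presented group is `B̄ N̄ B̄`.
-/

set_option autoImplicit false

namespace CfsgLib.SteinbergPres

open Cfsg.Lie CfsgLib.Chevalley
open scoped MatrixGroups

variable {D : ChevalleyDatum} {K : Type*} [Field K]

/-- `B̄ = Ū H̄`. -/
def bBar (hW : GoodWeyl D) : Subgroup (D.SteinbergGroup K) := genB D K (posSet D) ⊔ hBar hW

theorem mem_bBar_iff (hP : GoodPres D) {g : D.SteinbergGroup K} :
    g ∈ bBar hP.toGoodWeyl ↔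
      ∃ u ∈ genB D K (posSet D), ∃ h ∈ hBar hP.toGoodWeyl, g = u * h := by
  have hnorm : ∀ h ∈ hBar (K := K) hP.toGoodWeyl, ∀ u ∈ genB D K (posSet D),
      h * u * h⁻¹ ∈ genB D K (posSet D) := fun h hh u hu =>
    (monBar_of_hBar hP hh).conj_genB (fun r hr => hr) hu
  constructor
  · intro hg
    rw [bBar, Subgroup.sup_eq_closure] at hg
    induction hg using Subgroup.closure_induction with
    | mem x hx =>
      rcases hx with hx | hx
      · exact ⟨x, hx, 1, one_mem _, (mul_one x).symm⟩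
      · exact ⟨1, one_mem _, x, hx, (one_mul x).symm⟩
    | one => exact ⟨1, one_mem _, 1, one_mem _, (mul_one 1).symm⟩
    | mul x y _ _ hx hy =>
      obtain ⟨u, hu, a, ha, rfl⟩ := hx
      obtain ⟨v, hv, b, hb', rfl⟩ := hy
      exact ⟨u * (a * v * a⁻¹), mul_mem hu (hnorm a ha v hv), a * b, mul_mem ha hb', by group⟩
    | inv x _ hx =>
      obtain ⟨u, hu, a, ha, rfl⟩ := hx
      exact ⟨a⁻¹ * u⁻¹ * a⁻¹⁻¹, hnorm _ (inv_mem ha) _ (inv_mem hu), a⁻¹, inv_mem ha, by group⟩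
  · rintro ⟨u, hu, a, ha, rfl⟩
    exact mul_mem (Subgroup.mem_sup_left hu) (Subgroup.mem_sup_right ha)

/-- Membership in `B̄ N̄ B̄`. -/
def InBig (hW : GoodWeyl D) (g : D.SteinbergGroup K) : Prop :=
  ∃ b ∈ bBar hW, ∃ m ∈ nBar hW, ∃ b' ∈ bBar hW, g = b * m * b'

theorem InBig.left {hW : GoodWeyl D} {g b : D.SteinbergGroup K} (hg : InBig hW g)
    (hb : b ∈ bBar hW) : InBig hW (b * g) := by
  obtain ⟨c, hc, m, hm, c', hc', rfl⟩ := hg
  exact ⟨b * c, mul_mem hb hc, m, hm, c', hc', by group⟩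

theorem InBig.right {hW : GoodWeyl D} {g b : D.SteinbergGroup K} (hg : InBig hW g)
    (hb : b ∈ bBar hW) : InBig hW (g * b) := by
  obtain ⟨c, hc, m, hm, c', hc', rfl⟩ := hg
  exact ⟨c, hc, m, hm, c' * b, mul_mem hc' hb, by group⟩

variable (hP : GoodPres D)
include hP

theorem xb_pos_mem_bBar {r : Root D} (hr : half D ≤ r) (t : K) :
    xb r t ∈ bBar hP.toGoodWeyl :=
  Subgroup.mem_sup_left (xb_mem_genB (S := posSet D) hr t)

/-- Root elements of a root whose image under the inverse permutation is positive move to the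
right of a monomial element. -/
theorem xb_mul_nBar {m : D.SteinbergGroup K} {π : Equiv.Perm (Root D)} (hπ : MonBar m π)
    {a : Root D} (ha : half D ≤ (π⁻¹ a : ℕ)) (v : K) :
    ∃ b ∈ bBar hP.toGoodWeyl, xb a v * m = m * b := by
  obtain ⟨-, c, hc, -⟩ := hπ.inv a
  rw [inv_inv] at hc
  refine ⟨xb (π⁻¹ a) ((c : K) * v), xb_pos_mem_bBar hP ha _, ?_⟩
  rw [← hc]
  group

/-- The key step: `n̄_i x̄_{α_i}(v) m` lies in `B̄ N̄ B̄`. -/
theorem nb_xb_mul_mem (i : Fin D.rank) (v : K) {m : D.SteinbergGroup K}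
    (hm : m ∈ nBar hP.toGoodWeyl) :
    InBig hP.toGoodWeyl (nb hP.toGoodWeyl i 1 * xb (pRoot hP.toGoodWeyl i) v * m) := by
  have hW := hP.toGoodWeyl
  set a := pRoot hW i
  set n := nb hW i (1 : Kˣ) with hn
  have hnm : n * m ∈ nBar hW := mul_mem (nb_mem_nBar hW i 1) hm
  obtain ⟨π, hπ⟩ := exists_monBar hP hm
  by_cases hpos : half D ≤ (π⁻¹ a : ℕ)
  · obtain ⟨b, hb', e⟩ := xb_mul_nBar hP hπ hpos v
    exact ⟨1, one_mem _, n * m, hnm, b, hb', by rw [mul_assoc n, e]; group⟩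
  rcases eq_or_ne v 0 with rfl | hv
  · exact ⟨1, one_mem _, n * m, hnm, 1, one_mem _, by rw [xb_zero]; group⟩
  -- `n x_α(v) n⁻¹ = x_{-α}(w)`
  obtain ⟨w, hw, ew⟩ : ∃ w : K, w ≠ 0 ∧ n * xb a v * n⁻¹ = xb a.rev w := by
    refine ⟨_, ?_, by rw [hn, nb_conj_xb hP, hW.wPerm_pRoot]⟩
    rw [hW.eta_pRoot]
    simp [hv]
  set s : Kˣ := Units.mk0 w hw with hs
  have ex : xb a.rev w = xb a (w⁻¹) * nb hW i (-s⁻¹) * xb a (w⁻¹) := by
    have e1 : ((-s⁻¹ : Kˣ) : K) = -w⁻¹ := by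
      rw [Units.val_neg, Units.val_inv_eq_inv_val, hs, Units.val_mk0]
    have e2 : -((((-s⁻¹)⁻¹ : Kˣ)) : K) = w := by
      rw [inv_neg, inv_inv, Units.val_neg, neg_neg, hs, Units.val_mk0]
    rw [nb, e1, e2, ← xb_inv]
    show xb a.rev w = xb a w⁻¹ * ((xb a w⁻¹)⁻¹ * xb a.rev w * (xb a w⁻¹)⁻¹) * xb a w⁻¹
    group
  -- now `-α` is moved to a positive root by `(n m)⁻¹`
  have hπ' := (monBar_nb hP i (1 : Kˣ)).mul hπ
  have hpos' : half D ≤ (((wPerm hW i * π)⁻¹ a : Root D) : ℕ) := by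
    have hr : π⁻¹ a.rev = (π⁻¹ a).rev := (hπ.inv a).1
    have hh := hW.good.two_half
    have hinv : (wPerm hW i)⁻¹ a = a.rev := by
      rw [show (wPerm hW i)⁻¹ a = wPerm hW i a from (wPerm hW i).injective
        (((wPerm hW i).apply_symm_apply a).trans (hW.wPerm_wPerm i a).symm)]
      exact hW.wPerm_pRoot i
    rw [mul_inv_rev, Equiv.Perm.mul_apply, hinv, hr, Fin.val_rev]
    omega
  obtain ⟨b, hb', e⟩ := xb_mul_nBar hP hπ' hpos' w⁻¹
  refine ⟨xb a w⁻¹, xb_pos_mem_bBar hP (pRoot_pos hW i) _, nb hW i (-s⁻¹) * (n * m),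
    mul_mem (nb_mem_nBar hW i _) hnm, b, hb', ?_⟩
  rw [show n * xb a v * m = n * xb a v * n⁻¹ * (n * m) by group, ew, ex,
    mul_assoc (xb a w⁻¹ * nb hW i (-s⁻¹)) (xb a w⁻¹), e]
  group
  rfl

theorem nb_mul_inBig (i : Fin D.rank) {g : D.SteinbergGroup K} (hg : InBig hP.toGoodWeyl g) :
    InBig hP.toGoodWeyl (nb hP.toGoodWeyl i 1 * g) := by
  have hW := hP.toGoodWeyl
  obtain ⟨b, hb', m, hm, b', hb'', rfl⟩ := hg
  obtain ⟨u, hu, a, ha, rfl⟩ := (mem_bBar_iff hP).1 hb'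
  have hS : ∀ s ∈ posCompl hW i, half D ≤ (s : ℕ) ∧
      ∀ k : Root D, ((pRoot hW i : Root D) : ℕ) < k → (s : ℕ) < k → k ∈ posCompl hW i := by
    intro s hs
    refine ⟨hs.1, fun k h1 _ => (show half D ≤ (k : ℕ) ∧ k ≠ pRoot hW i from ⟨?_, ?_⟩)⟩
    · have := pRoot_pos hW i; omega
    · rintro rfl; omega
  obtain ⟨u', hu', v, rfl⟩ := exists_split_genB hW (a := pRoot hW i) (S := posCompl hW i)
    (pRoot_pos hW i) hS
    (fun r hr => by
      by_cases h : r = pRoot hW i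
      · exact Or.inl h
      · exact Or.inr (show half D ≤ (r : ℕ) ∧ r ≠ pRoot hW i from ⟨hr, h⟩)) hu
  set n := nb hW i (1 : Kˣ)
  have h1 : n * u' * n⁻¹ ∈ bBar hW := Subgroup.mem_sup_left
    (genB_mono (fun r hr => hr.1)
      ((monBar_nb hP i 1).conj_genB (T := posCompl hW i) (fun r hr => hW.wPerm_pos i hr.1 hr.2) hu'))
  have h2 := (nb_xb_mul_mem hP i v (mul_mem (hBar_le_nBar hW ha) hm)).left h1
  have h3 := h2.right hb''
  convert h3 using 1
  show n * (u' * xb (pRoot hW i) v * a * m * b') =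
    n * u' * n⁻¹ * (n * xb (pRoot hW i) v * (a * m)) * b'
  group

theorem xb_mem_closure (r : Root D) :
    ∀ t : K, xb r t ∈ bBar hP.toGoodWeyl ⊔ nBar hP.toGoodWeyl := by
  refine hP.toGoodWeyl.root_induction (P := fun r => ∀ t : K,
    xb r t ∈ bBar hP.toGoodWeyl ⊔ nBar hP.toGoodWeyl) (fun i t => ?_) (fun i r hr t => ?_) r
  · exact Subgroup.mem_sup_left (xb_pos_mem_bBar hP (pRoot_pos _ i) t)
  · obtain ⟨e, he⟩ : ∃ e : Kˣ, (e : K) = (eta D i r : K) := by
      have h : (eta D i r : K) * eta D i r = 1 := by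
        rw [← Int.cast_mul, hP.toGoodWeyl.eta_sq, Int.cast_one]
      exact ⟨⟨_, _, h, h⟩, rfl⟩
    have hn : nb hP.toGoodWeyl i (1 : Kˣ) ∈ bBar hP.toGoodWeyl ⊔ nBar hP.toGoodWeyl :=
      Subgroup.mem_sup_right (nb_mem_nBar _ i 1)
    have := mul_mem (mul_mem hn (hr (((e⁻¹ : Kˣ) : K) * t))) (inv_mem hn)
    rwa [nb_conj_xb hP, one_zpow, Units.val_one, mul_one, ← he, ← mul_assoc, ← Units.val_mul,
      mul_inv_cancel, Units.val_one, one_mul] at this

/-- The cover. -/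
theorem inBig_all (g : D.SteinbergGroup K) : InBig hP.toGoodWeyl g := by
  have hW := hP.toGoodWeyl
  set S : Set (D.SteinbergGroup K) :=
    (bBar (K := K) hW : Set (D.SteinbergGroup K)) ∪ {x | ∃ i, nb hW i (1 : Kˣ) = x} with hS
  have hB : bBar hW ≤ Subgroup.closure S := fun x hx => Subgroup.subset_closure (Or.inl hx)
  have htop : g ∈ Subgroup.closure S := by
    have hN : nBar (K := K) hW ≤ Subgroup.closure S := by
      rw [nBar, Subgroup.closure_le]
      rintro _ ⟨i, t, rfl⟩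
      rw [nb_eq_hb_mul]
      exact mul_mem (hB (Subgroup.mem_sup_right (hb_mem_hBar hW i t)))
        (Subgroup.subset_closure (Or.inr ⟨i, rfl⟩))
    have : (⊤ : Subgroup (D.SteinbergGroup K)) ≤ Subgroup.closure S := by
      rw [← PresentedGroup.closure_range_of (D.steinbergRels K), Subgroup.closure_le]
      rintro _ ⟨⟨r, t⟩, rfl⟩
      have e : xb r t = PresentedGroup.of (r, t) := by
        simp [xb, ChevalleyDatum.stGen, ChevalleyDatum.stX, PresentedGroup.of]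
      rw [← e]
      exact sup_le hB hN (xb_mem_closure hP r t)
    exact this (Subgroup.mem_top g)
  induction htop using Subgroup.closure_induction_left with
  | one => exact ⟨1, one_mem _, 1, one_mem _, 1, one_mem _, by group⟩
  | mul_left x hx y _ hy =>
    rcases hx with hx | ⟨i, rfl⟩
    · exact hy.left hx
    · exact nb_mul_inBig hP i hy
  | inv_mul_cancel x hx y _ hy =>
    rcases hx with hx | ⟨i, rfl⟩
    · exact hy.left (inv_mem hx)
    · have e : (nb hW i (1 : Kˣ))⁻¹ = nb hW i 1 * hb hW i (-1) := by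
        rw [hb, nb_neg]
        group
      rw [e, mul_assoc]
      exact nb_mul_inBig hP i (hy.left (Subgroup.mem_sup_right (hb_mem_hBar hW i _)))

end CfsgLib.SteinbergPres
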