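import Cfsg.Agent.SteinbergPres.Kernel
import Cfsg.Agent.Chevalley.Parabolic
import Cfsg.Agent.ChevTorus.Order
/-!
The Chevalley group has trivial centre, so the kernel of the map of the presented group is the
centre.
-/

set_option autoImplicit false

namespace CfsgLib.SteinbergPres

open Cfsg.Lie CfsgLib.Chevalley
open scoped MatrixGroups

variable {D : ChevalleyDatum} {K : Type*} [Field K] {C : Weyl.Cert D.rank}
  {M : CoxeterMatrix (Fin D.rank)} {R : Weyl.RootTable}

/-- An element of the Chevalley group commuting with all root elements is trivial. -/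
theorem eq_one_of_commute_X (hW : GoodWeyl D) (h : Weyl.RootGood C M R) {z : GL D.Idx K}
    (hz : z ∈ D.group K) (hc : ∀ r t, z * X hW.good r t = X hW.good r t * z) : z = 1 := by
  have hzg : ∀ g ∈ D.group K, z * g = g * z := by
    intro g hg
    rw [group_eq_closure hW.good] at hg
    induction hg using Subgroup.closure_induction with
    | mem x hx => obtain ⟨r, t, rfl⟩ := hx; exact hc r t
    | one => simp
    | mul x y _ _ hx hy => rw [← mul_assoc, hx, mul_assoc, hy, mul_assoc]
    | inv x _ hx => exact (Commute.inv_right hx)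
  have hrad : radJ D (∅ : Set (Fin D.rank)) = posSet D := by
    ext r
    refine ⟨fun hr => hr.1, fun hr => ⟨hr, fun hJ => ?_⟩⟩
    obtain ⟨k, hk⟩ := hW.toGoodUni.exists_coroot_ne K r
    exact hk (by
      have : ChevTorus.co D r k = 0 := hJ k (Set.notMem_empty k)
      simp only [ChevTorus.co] at this
      rw [this, Int.cast_zero])
  have hN : z ∈ Subgroup.normalizer
      (rootGen hW.good K (radJ D (∅ : Set (Fin D.rank))) : Set (GL D.Idx K)) := by
    rw [hrad, ← posUnipotent_eq_rootGen hW.good, Subgroup.mem_normalizer_iff]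
    have hU : D.posUnipotent K ≤ D.group K := (pos_le_borel D).trans (borel_le_group hW)
    intro x
    constructor
    · intro hx
      rwa [hzg x (hU hx), mul_inv_cancel_right]
    · intro hx
      have e := hzg _ (hU hx)
      rwa [show x = z⁻¹ * (z * x * z⁻¹) * z by group, mul_assoc, ← e, inv_mul_cancel_left]
  have hzB : z ∈ D.borelSubgroup K := by
    have := (normalizer_rad_inf_group (J := (∅ : Set (Fin D.rank))) hW h).le ⟨hN, hz⟩
    rwa [pJ, Set.image_empty, Subgroup.closure_empty, sup_bot_eq] at this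
  obtain ⟨u, hu, a, ha, rfl⟩ := (mem_borel_iff hW).1 hzB
  obtain ⟨n, hn, hconj⟩ := ChevTorus.exists_conj_pos_eq_neg (F := K) hW
  have hnu : n * u * n⁻¹ ∈ D.negUnipotent K := hconj ▸ Subgroup.mem_map_of_mem _ hu
  have hna : n * a * n⁻¹ ∈ D.diagonalSubgroup K :=
    (Subgroup.mem_normalizer_iff.1 (monomial_le_normalizer hW hn) a).1 ha
  have e : u * (a * (n * a * n⁻¹)⁻¹) = n * u * n⁻¹ := by
    have h1 := hzg n (monomial_le_group hW hn)
    calc u * (a * (n * a * n⁻¹)⁻¹) = (u * a * n) * n⁻¹ * (n * a * n⁻¹)⁻¹ := by group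
      _ = (n * (u * a)) * n⁻¹ * (n * a * n⁻¹)⁻¹ := by rw [h1]
      _ = n * u * n⁻¹ := by group
  rw [posUnipotent_eq hW.good] at hu
  rw [negUnipotent_eq hW.good] at hnu
  obtain ⟨-, rfl⟩ := eq_one_of_lower_diag hW hu hnu (mul_mem ha (inv_mem hna)) e
  rw [one_mul] at hc ⊢
  rw [diagonalSubgroup_eq_range hW] at ha
  obtain ⟨c, rfl⟩ := ha
  refine (ChevTorus.torC_eq_one_iff hW c).2 (funext fun j => ?_)
  rw [← ChevTorus.torVal_pRoot hW, Pi.one_apply]
  have e1 := hc (pRoot hW j) 1
  change torC D c * _ = _ * torC D c at e1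
  have e2 := ChevTorus.torC_conj_X hW.good c (pRoot hW j) (1 : K)
  rw [e1, mul_inv_cancel_right, mul_one] at e2
  exact Units.ext (X_injective hW.good _ e2).symm

/-- The kernel is the centre. -/
theorem ker_eq_center (hP : GoodPres D) (h : Weyl.RootGood C M R)
    {f : D.SteinbergGroup K →* GL D.Idx K} (hf : ∀ r t, f (xb r t) = X hP.good r t) :
    f.ker = Subgroup.center (D.SteinbergGroup K) := by
  refine le_antisymm (ker_le_center hP h hf) fun z hz => ?_
  rw [Subgroup.mem_center_iff] at hz
  rw [MonoidHom.mem_ker]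
  refine eq_one_of_commute_X hP.toGoodWeyl h ?_ fun r t => ?_
  · exact range_eq_group hP.toGoodWeyl hf ▸ ⟨z, rfl⟩
  · rw [← hf, ← map_mul, ← map_mul, hz]

end CfsgLib.SteinbergPres
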