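import Cfsg.Agent.SteinbergPres.TorusKernel
/-!
A root subsystem with the same structure constants gives a homomorphism of the presented group
into the larger Chevalley group; it shows that `c ↦ ∏ h̄_k(c_k)` is injective.
-/

set_option autoImplicit false

namespace CfsgLib.SteinbergPres

open Cfsg.Lie CfsgLib.Chevalley CfsgLib.ChevTorus
open scoped MatrixGroups

/-- The roots of `D` are those roots of `D'` that `emb` lists, with inverse `inv`. -/
def chkEmb (D D' : ChevalleyDatum) (emb inv : List ℕ) : Bool :=
  ((List.range D.nroots).all fun s =>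
    let b := emb.getD s 0
    decide (b < D'.nroots) && (inv.getD b D.nroots == s) &&
      (opp D' b == emb.getD (opp D s) 0)) &&
  (List.range D'.nroots).all fun x =>
    let s := inv.getD x D.nroots
    decide (D.nroots ≤ s) || (emb.getD s 0 == x)

/-- The chains of `D` are those of `D'` between the listed roots. -/
def chkRows (D D' : ChevalleyDatum) (emb inv : List ℕ) : Bool :=
  (List.range D.nroots).all fun r =>
    ((chainTrie D').get (emb.getD r 0)).all (fun e => decide (e.1 < D'.nroots)) &&
    (((chainTrie D').get (emb.getD r 0)).filterMap fun e =>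
        bif decide (inv.getD e.1 D.nroots < D.nroots) then some (inv.getD e.1 D.nroots, e.2)
        else none) ==
      ((chainTrie D).get r).map fun e => (e.1, e.2.map fun q => (emb.getD q.1 0, q.2))

/-- The tables of `D` sit inside those of `D'`, the fundamental roots first. -/
def chkSub (D D' : ChevalleyDatum) (emb inv : List ℕ) : Bool :=
  ((List.range D.rank).all fun k => emb.getD (D.simple k) 0 == D'.simple k) &&
    chkEmb D D' emb inv && chkRows D D' emb inv

theorem find?_filterMap_key {α : Type} (g : ℕ → Option ℕ) {b s : ℕ} :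
    ∀ L : List (ℕ × α), (∀ e ∈ L, g e.1 = some s ↔ e.1 = b) →
      ((L.filterMap fun e => (g e.1).map fun x => (x, e.2)).find? fun e => e.1 == s).map Prod.snd =
        (L.find? fun e => e.1 == b).map Prod.snd
  | [], _ => rfl
  | e :: L, hg => by
    have ih := find?_filterMap_key g L fun x hx => hg x (List.mem_cons_of_mem _ hx)
    have he := hg e (List.mem_cons_self ..)
    by_cases hb : e.1 = b
    · rw [List.filterMap_cons, he.2 hb]
      simp [hb]
    · cases hx : g e.1 with
      | none =>
        simp only [List.filterMap_cons, hx, Option.map_none, List.find?_cons,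
          beq_false_of_ne hb]
        exact ih
      | some x =>
        have hxs : x ≠ s := fun h => hb (he.1 (by rw [hx, h]))
        simp only [List.filterMap_cons, hx, Option.map_some, List.find?_cons, beq_false_of_ne hb,
          beq_false_of_ne hxs]
        exact ih

theorem chainEntry_sub {D D' : ChevalleyDatum} {emb inv : List ℕ}
    (hE : chkEmb D D' emb inv = true) (hR : chkRows D D' emb inv = true) {r s : ℕ}
    (hr : r < D.nroots) (hs : s < D.nroots) :
    D'.chainEntry (emb.getD r 0) (emb.getD s 0) =
      (D.chainEntry r s).map fun q => (emb.getD q.1 0, q.2) := by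
  simp only [chkEmb, chkRows, Bool.and_eq_true, List.all_eq_true, List.mem_range,
    decide_eq_true_eq, beq_iff_eq, Bool.or_eq_true] at hE hR
  obtain ⟨hE, hI⟩ := hE
  obtain ⟨hlt, hrow⟩ := hR r hr
  rw [← entryT_eq, ← entryT_eq, entryT, entryT]
  set row' := (chainTrie D').get (emb.getD r 0) with hrow'
  let g : ℕ → Option ℕ := fun x =>
    bif decide (inv.getD x D.nroots < D.nroots) then some (inv.getD x D.nroots) else none
  have hkey := find?_filterMap_key (α := List (ℕ × ℤ)) g (b := emb.getD s 0) (s := s) row'
    (fun e he => by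
      constructor
      · intro h
        simp only [g] at h
        cases hd : decide (inv.getD e.1 D.nroots < D.nroots)
        · simp only [hd, cond_false, reduceCtorEq] at h
        · simp only [hd, cond_true, Option.some.injEq] at h
          rcases hI e.1 (hlt e he) with h' | h'
          · omega
          · rw [← h', h]
      · intro h
        simp only [g, h, (hE s hs).1.2, hs, decide_true, cond_true])
  have hrow2 : (row'.filterMap fun e => (g e.1).map fun x => (x, e.2)) =
      ((chainTrie D).get r).map fun e => (e.1, e.2.map fun q => (emb.getD q.1 0, q.2)) := by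
    rw [← hrow]
    refine List.filterMap_congr fun e _ => ?_
    simp only [g]
    cases decide (inv.getD e.1 D.nroots < D.nroots) <;> rfl
  rw [hrow2, List.find?_map, Option.map_map] at hkey
  simp only [Function.comp_def] at hkey
  cases h1 : row'.find? (fun e => e.1 == emb.getD s 0) <;>
    cases h2 : ((chainTrie D).get r).find? (fun e => e.1 == s) <;>
      simp only [h1, h2, Option.map_none, Option.map_some, Option.some.injEq,
        reduceCtorEq] at hkey ⊢ <;>
      first
        | rfl
        | exact hkey.symm

theorem filterMap_map_fst {α β : Type} (e : α → α) (L : List (Option α × β)) :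
    (L.map fun c => (c.1.map e, c.2)).filterMap (fun c => c.1.map fun k => (k, c.2)) =
      (L.filterMap fun c => c.1.map fun k => (k, c.2)).map fun c => (e c.1, c.2) := by
  rw [List.filterMap_map, List.map_filterMap]
  congr 1
  funext c
  obtain ⟨o, b⟩ := c
  cases o <;> rfl

theorem commTerms_sub {D D' : ChevalleyDatum} {emb inv : List ℕ} (hD : Good D)
    (hE : chkEmb D D' emb inv = true) (hR : chkRows D D' emb inv = true) {r s : ℕ}
    (hr : r < D.nroots) (hs : s < D.nroots) :
    D'.commTerms (emb.getD r 0) (emb.getD s 0) =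
      (D.commTerms r s).map fun c => (emb.getD c.1 0, c.2) := by
  have hroot : ∀ {x y : ℕ} (i : ℕ), x < D.nroots → y < D.nroots →
      D'.chainRoot (emb.getD x 0) (emb.getD y 0) i =
        (D.chainRoot x y i).map fun k => emb.getD k 0 := by
    intro x y i hx hy
    simp only [ChevalleyDatum.chainRoot, chainEntry_sub hE hR hx hy, List.getElem?_map,
      Option.map_map, Function.comp_def]
  have hM : ∀ {x y : ℕ} (i : ℕ), x < D.nroots → y < D.nroots →
      D'.chainM (emb.getD x 0) (emb.getD y 0) i = D.chainM x y i := by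
    intro x y i hx hy
    simp only [ChevalleyDatum.chainM, chainEntry_sub hE hR hx hy, List.getElem?_map,
      Option.map_map, Function.comp_def]
  have hlt : ∀ {x y i k : ℕ}, x < D.nroots → D.chainRoot x y i = some k → k < D.nroots := by
    intro x y i k hx h
    simp only [ChevalleyDatum.chainRoot, Option.map_eq_some_iff] at h
    obtain ⟨q, hq, rfl⟩ := h
    obtain ⟨-, -, -, hlt, -⟩ := hD.chainEntry_mem hx (List.mem_of_getElem? hq)
    exact hlt
  have hbind : ∀ {x y z : ℕ} (i : ℕ), x < D.nroots → y < D.nroots → z < D.nroots →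
      ((D'.chainRoot (emb.getD x 0) (emb.getD y 0) i).bind
          fun k => D'.chainRoot k (emb.getD z 0) 1) =
        ((D.chainRoot x y i).bind fun k => D.chainRoot k z 1).map fun k => emb.getD k 0 := by
    intro x y z i hx hy hz
    rw [hroot i hx hy]
    cases h : D.chainRoot x y i with
    | none => rfl
    | some k => simp only [Option.map_some, Option.bind_some, hroot 1 (hlt hx h) hz]
  have hcoef : ∀ {z : ℕ} (F : ℤ → ℤ), z < D.nroots →
      ((D'.chainRoot (emb.getD r 0) (emb.getD s 0) 1).map
          fun k => F (D'.chainM k (emb.getD z 0) 2)).getD 0 =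
        ((D.chainRoot r s 1).map fun k => F (D.chainM k z 2)).getD 0 := by
    intro z F hz
    rw [hroot 1 hr hs]
    cases h : D.chainRoot r s 1 with
    | none => rfl
    | some k => simp only [Option.map_some, Option.getD_some, hM 2 (hlt hr h) hz]
  simp only [ChevalleyDatum.commTerms]
  rw [hbind 3 hr hs hs, hbind 3 hs hr hr, hcoef (fun m => m / 3) hr,
    hcoef (fun m => -2 * m / 3) hs]
  simp only [hroot _ hr hs, hroot _ hs hr, hM _ hr hs, hM _ hs hr]
  rw [← filterMap_map_fst (fun k => emb.getD k 0)]
  simp only [List.map_cons, List.map_nil]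

variable {D D' : ChevalleyDatum} {K : Type*} [Field K] {emb inv : List ℕ}

/-- The root elements of the subsystem. -/
def xSub (hD' : Good D') (D : ChevalleyDatum) (emb : List ℕ) (r : ℕ) (t : K) : GL D'.Idx K :=
  if r < D.nroots then xN hD' (emb.getD r 0) t else 1

theorem exists_hom_sub (hW : GoodWeyl D) (hW' : GoodWeyl D') (hs : chkSub D D' emb inv = true) :
    ∃ φ : D.SteinbergGroup K →* GL D'.Idx K,
      ∀ (r : Root D) t, φ (xb r t) = xN hW'.good (emb.getD r 0) t := by
  simp only [chkSub, Bool.and_eq_true] at hs
  obtain ⟨⟨-, hE⟩, hR⟩ := hs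
  have hE' := hE
  simp only [chkEmb, Bool.and_eq_true, List.all_eq_true, List.mem_range, decide_eq_true_eq,
    beq_iff_eq] at hE'
  have hlt : ∀ {r}, r < D.nroots → emb.getD r 0 < D'.nroots := fun hr => (hE'.1 _ hr).1.1
  have hinj : ∀ {r s}, r < D.nroots → s < D.nroots → emb.getD r 0 = emb.getD s 0 → r = s := by
    intro r s hr hs e
    rw [← (hE'.1 r hr).1.2, ← (hE'.1 s hs).1.2, e]
  have hneg : ∀ {r}, r < D.nroots → D'.neg (emb.getD r 0) = emb.getD (D.neg r) 0 := by
    intro r hr
    rw [hW'.good.neg_eq (hlt hr), hW.good.neg_eq hr]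
    exact (hE'.1 r hr).2
  have hl := ChevCollect.lift_stX D (x := xSub (K := K) hW'.good D emb) fun r hr t => if_neg hr
  refine ⟨PresentedGroup.toGroup
    (f := fun p : Fin D.nroots × K => xSub hW'.good D emb p.1 p.2) ?_,
    fun r t => (hl r t).trans (if_pos r.isLt)⟩
  rintro g ((⟨r, t, u, hr, rfl⟩ | ⟨r, s, t, u, hr, hs', h1, h2, rfl⟩) | ⟨r, t, u, hr, ht, hu, rfl⟩)
  · have ha := hlt hr
    simp only [map_mul, map_inv, hl]
    simp only [xSub, if_pos hr, xN, dif_pos ha, X_mul, mul_inv_cancel]
  · have ha := hlt hr
    have hb := hlt hs'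
    have hnr : D.neg r < D.nroots := by
      rw [hW.good.neg_eq hr, opp]
      omega
    have hba : emb.getD s 0 ≠ emb.getD r 0 := fun e => h1 (hinj hs' hr e)
    have hbn : emb.getD s 0 ≠ D'.neg (emb.getD r 0) :=
      fun e => h2 (hinj hs' hnr (e.trans (hneg hr)))
    have hc := commTerms_sub hW.good hE hR hr hs'
    simp only [map_mul, map_inv, ChevCollect.stWord_map, hl]
    simp only [xSub, if_pos hr, if_pos hs', xN, dif_pos ha, dif_pos hb]
    have hne : (⟨emb.getD s 0, hb⟩ : Root D') ≠ (⟨emb.getD r 0, ha⟩ : Root D').rev := by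
      intro e
      have := congrArg Fin.val e
      rw [Fin.val_rev] at this
      refine hbn ?_
      rw [hW'.good.neg_eq ha, opp]
      simp only at this
      omega
    have e := X_comm hW'.toGoodComm (⟨emb.getD r 0, ha⟩ : Root D') ⟨emb.getD s 0, hb⟩
      (fun e => hba (congrArg Fin.val e)) hne t u
    have ec : ((D.commWord K r s t u).map fun p => xSub hW'.good D emb p.1 p.2).prod =
        commRhs hW'.good (emb.getD r 0) (emb.getD s 0) t u := by
      rw [commRhs, wordGL_eq, hc]
      simp only [ChevalleyDatum.commWord, List.map_map]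
      congr 1
      refine List.map_congr_left fun c hc' => ?_
      have hlt : c.1 < D.nroots := by
        simp only [ChevalleyDatum.commTerms, List.mem_filterMap, Option.map_eq_some_iff] at hc'
        obtain ⟨e, he, k, hk, rfl⟩ := hc'
        have hroot : ∀ {x y i k : ℕ}, x < D.nroots → D.chainRoot x y i = some k →
            k < D.nroots := by
          intro x y i k hx h
          simp only [ChevalleyDatum.chainRoot, Option.map_eq_some_iff] at h
          obtain ⟨q, hq, rfl⟩ := h
          obtain ⟨-, -, -, hlt, -⟩ := hW.good.chainEntry_mem hx (List.mem_of_getElem? hq)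
          exact hlt
        simp only [List.mem_cons, List.not_mem_nil, or_false] at he
        rcases he with rfl | rfl | rfl | rfl | rfl | rfl | rfl
        · exact hroot hr hk
        · exact hroot hr hk
        · exact hroot hs' hk
        · exact hroot hr hk
        · exact hroot hs' hk
        · obtain ⟨m, hm, hk⟩ := Option.bind_eq_some_iff.1 hk
          exact hroot (hroot hr hm) hk
        · obtain ⟨m, hm, hk⟩ := Option.bind_eq_some_iff.1 hk
          exact hroot (hroot hs' hm) hk
      simp [Function.comp_apply, xSub, hlt]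
    simp only [xSub, xN] at ec
    simp only at e
    rw [ec, show ∀ a b W : GL D'.Idx K, a⁻¹ * b⁻¹ * a * b * W⁻¹ = a⁻¹ * b⁻¹ * (a * b) * W⁻¹ from
      fun a b W => by group, e]
    group
  · have ha := hlt hr
    have hna := hneg hr
    have hnr : D.neg r < D.nroots := by
      rw [hW.good.neg_eq hr, opp]
      omega
    have hh : ∀ (t : K) (ht : t ≠ 0),
        FreeGroup.lift (fun p : Fin D.nroots × K => xSub hW'.good D emb p.1 p.2) (D.stH r t) =
          hT K (⟨emb.getD r 0, ha⟩ : Root D') (Units.mk0 t ht) := fun t ht => by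
      rw [ChevalleyDatum.stH, ChevCollect.stWord_map]
      simp only [hl]
      have : ((D.hWord r t).map fun p => xSub hW'.good D emb p.1 p.2).prod =
          wordGL hW'.good (D'.hWord (emb.getD r 0) t) := by
        rw [wordGL_eq]
        simp [ChevalleyDatum.hWord, ChevalleyDatum.nWord, xSub, hr, hnr, hna, -List.getD_eq_getElem?_getD]
      rw [this]
      refine Units.ext ((coe_wordGL _ _).trans ?_)
      rw [coe_hT_eq_hMat hW']
      rfl
    rw [map_mul, map_mul, map_inv, hh t ht, hh u hu, hh _ (mul_ne_zero ht hu), hT_mul,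
      show Units.mk0 t ht * Units.mk0 u hu = Units.mk0 (t * u) (mul_ne_zero ht hu) from
        Units.ext rfl, mul_inv_cancel]

/-- Extension of a tuple by ones. -/
noncomputable def extOne (hle : D.rank ≤ D'.rank) : (Fin D.rank → Kˣ) →* (Fin D'.rank → Kˣ) :=
  MonoidHom.mk' (fun c => Function.extend (Fin.castLE hle) c 1) fun c d => by
    rw [← Function.extend_mul]; simp

theorem extOne_single (hle : D.rank ≤ D'.rank) (i : Fin D.rank) (t : Kˣ) :
    extOne hle (Pi.mulSingle i t) = Pi.mulSingle (Fin.castLE hle i) t := by
  funext j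
  by_cases hj : ∃ k, Fin.castLE hle k = j
  · obtain ⟨k, rfl⟩ := hj
    show Function.extend (Fin.castLE hle) _ 1 _ = _
    rw [(Fin.castLE_injective hle).extend_apply]
    rcases eq_or_ne k i with rfl | hk
    · simp
    · rw [Pi.mulSingle_eq_of_ne hk,
        Pi.mulSingle_eq_of_ne fun e => hk (Fin.castLE_injective hle e)]
  · show Function.extend (Fin.castLE hle) _ 1 _ = _
    rw [Function.extend_apply' _ _ _ hj, Pi.mulSingle_eq_of_ne fun e => hj ⟨i, e.symm⟩]
    rfl

theorem hbTor_injective_of_sub (hP : GoodPres D) (hW' : GoodWeyl D')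
    (hs : chkSub D D' emb inv = true) (hle : D.rank ≤ D'.rank)
    {L : Matrix (Fin D'.rank) (Fin D.rank) ℤ}
    (hL : (Matrix.of fun (k : Fin D.rank) (j : Fin D'.rank) =>
      cartanMat D' (Fin.castLE hle k) j) * L = 1) :
    Function.Injective (hbTor (K := K) hP) := by
  obtain ⟨φ, hφ⟩ := exists_hom_sub (K := K) hP.toGoodWeyl hW' hs
  simp only [chkSub, chkEmb, Bool.and_eq_true, List.all_eq_true, List.mem_range,
    decide_eq_true_eq, beq_iff_eq] at hs
  obtain ⟨⟨hsimple, hall, -⟩, -⟩ := hs
  have hcomp : φ.comp (hbTor hP) = (torHom D' K).comp (extOne hle) := by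
    refine MonoidHom.pi_ext fun i t => ?_
    rw [MonoidHom.comp_apply, MonoidHom.comp_apply, hbTor_single, extOne_single,
      torHom_single hW', ← hElt_eq hW', hb, map_mul]
    have hnb : ∀ t : Kˣ, φ (nb hP.toGoodWeyl i t) =
        nElt hW'.good (pRoot hW' (Fin.castLE hle i)) t := by
      intro t
      obtain ⟨⟨ha, -⟩, hna⟩ := hall _ (hP.good.simple_lt i.isLt)
      rw [← hW'.good.neg_eq ha, ← hP.good.neg_eq (hP.good.simple_lt i.isLt)] at hna
      have e1 : emb.getD (pRoot hP.toGoodWeyl i : Root D) 0 =
          ((pRoot hW' (Fin.castLE hle i) : Root D') : ℕ) := hsimple i i.isLt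
      have e2 : emb.getD ((pRoot hP.toGoodWeyl i).rev : Root D) 0 =
          (((pRoot hW' (Fin.castLE hle i)).rev : Root D') : ℕ) := by
        rw [← hP.good.neg_fin, ← hW'.good.neg_fin, ← e1]
        exact hna.symm
      rw [nb, map_mul, map_mul, hφ, hφ, e1, e2, xN_fin, xN_fin, nElt]
    rw [hnb, hnb]
  rw [← MonoidHom.ker_eq_bot_iff, eq_bot_iff]
  intro c hc
  have h1 : torC D' (extOne hle c) = (1 : GL D'.Idx K) := by
    show ((torHom D' K).comp (extOne hle)) c = 1
    rw [← hcomp, MonoidHom.comp_apply, MonoidHom.mem_ker.1 hc, map_one]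
  rw [Subgroup.mem_bot]
  refine eq_one_of_right_inverse hL fun j => ?_
  have h2 : ∏ k', extOne hle c k' ^ cartanMat D' k' j = 1 :=
    congrFun ((torC_eq_one_iff hW' _).1 h1) j
  refine Eq.trans ?_ h2
  refine Fintype.prod_of_injective (Fin.castLE hle) (Fin.castLE_injective hle) _ _ ?_ ?_
  · intro k' hk'
    show Function.extend (Fin.castLE hle) c 1 k' ^ _ = 1
    rw [Function.extend_apply' _ _ _ (fun ⟨k, e⟩ => hk' ⟨k, e⟩), Pi.one_apply, one_zpow]
  · intro k
    show c k ^ _ = Function.extend (Fin.castLE hle) c 1 (Fin.castLE hle k) ^ _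
    rw [(Fin.castLE_injective hle).extend_apply]
    rfl

end CfsgLib.SteinbergPres
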