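import Cfsg.Agent.SteinbergPres.Bruhat
/-!
The map of the presented group onto the Chevalley group and its kernel.
-/

set_option autoImplicit false

namespace CfsgLib.SteinbergPres

open Cfsg.Lie CfsgLib.Chevalley
open scoped MatrixGroups

variable {D : ChevalleyDatum} {K : Type*} [Field K]

/-- The root elements as a family indexed by natural numbers. -/
def xN (hD : Good D) (r : ℕ) (t : K) : GL D.Idx K :=
  if h : r < D.nroots then X hD ⟨r, h⟩ t else 1

theorem wordGL_eq (hD : Good D) (w : List (ℕ × K)) :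
    wordGL hD w = (w.map fun p => xN hD p.1 p.2).prod := rfl

theorem xN_fin (hD : Good D) (r : Root D) (t : K) : xN hD r t = X hD r t := dif_pos r.isLt

theorem exists_hom (hW : GoodWeyl D) :
    ∃ f : D.SteinbergGroup K →* GL D.Idx K, ∀ r t, f (xb r t) = X hW.good r t := by
  have hl := ChevCollect.lift_stX D (x := xN (K := K) hW.good) fun r hr t => dif_neg hr
  refine ⟨PresentedGroup.toGroup (f := fun p : Fin D.nroots × K => xN hW.good p.1 p.2) ?_,
    fun r t => (hl r t).trans (xN_fin _ r t)⟩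
  rintro g ((⟨r, t, u, hr, rfl⟩ | ⟨r, s, t, u, hr, hs, h1, h2, rfl⟩) | ⟨r, t, u, hr, ht, hu, rfl⟩)
  · simp only [map_mul, map_inv, hl]
    simp only [xN, dif_pos hr, X_mul, mul_inv_cancel]
  · simp only [map_mul, map_inv, ChevCollect.stWord_map, hl]
    rw [← wordGL_eq]
    simp only [xN, dif_pos hr, dif_pos hs]
    have hne : (⟨s, hs⟩ : Root D) ≠ (⟨r, hr⟩ : Root D).rev := by
      intro e
      have := congrArg Fin.val e
      rw [Fin.val_rev] at this
      refine h2 ?_
      rw [hW.good.neg_eq hr, opp]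
      simp only at this
      omega
    have e := X_comm hW.toGoodComm (⟨r, hr⟩ : Root D) ⟨s, hs⟩
      (fun e => h1 (congrArg Fin.val e)) hne t u
    have ec : wordGL hW.good (D.commWord K r s t u) = commRhs hW.good r s t u := rfl
    simp only at e
    rw [ec, show ∀ a b W : GL D.Idx K, a⁻¹ * b⁻¹ * a * b * W⁻¹ = a⁻¹ * b⁻¹ * (a * b) * W⁻¹ from
      fun a b W => by group, e]
    group
  · have hh : ∀ (t : K) (ht : t ≠ 0),
        FreeGroup.lift (fun p : Fin D.nroots × K => xN hW.good p.1 p.2) (D.stH r t) =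
          hT K ⟨r, hr⟩ (Units.mk0 t ht) := fun t ht => by
      rw [ChevalleyDatum.stH, ChevCollect.stWord_map]
      simp only [hl]
      rw [← wordGL_eq]
      refine Units.ext ((coe_wordGL _ _).trans ?_)
      rw [coe_hT_eq_hMat hW]
      rfl
    rw [map_mul, map_mul, map_inv, hh t ht, hh u hu, hh _ (mul_ne_zero ht hu), hT_mul,
      show Units.mk0 t ht * Units.mk0 u hu = Units.mk0 (t * u) (mul_ne_zero ht hu) from
        Units.ext rfl, mul_inv_cancel]

theorem closure_xb : Subgroup.closure {g | ∃ (r : Root D) (t : K), xb r t = g} = ⊤ := by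
  rw [eq_top_iff, ← PresentedGroup.closure_range_of (D.steinbergRels K), Subgroup.closure_le]
  rintro _ ⟨⟨r, t⟩, rfl⟩
  refine Subgroup.subset_closure ⟨r, t, ?_⟩
  simp [xb, ChevalleyDatum.stGen, ChevalleyDatum.stX, PresentedGroup.of]

variable {f : D.SteinbergGroup K →* GL D.Idx K}

theorem range_eq_group (hW : GoodWeyl D) (hf : ∀ r t, f (xb r t) = X hW.good r t) :
    f.range = D.group K := by
  rw [MonoidHom.range_eq_map, ← closure_xb, MonoidHom.map_closure, group_eq_closure hW.good]
  congr 1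
  ext g
  constructor
  · rintro ⟨_, ⟨r, t, rfl⟩, rfl⟩; exact ⟨r, t, (hf r t).symm⟩
  · rintro ⟨r, t, rfl⟩; exact ⟨_, ⟨r, t, rfl⟩, hf r t⟩

theorem map_nb (hW : GoodWeyl D) (hf : ∀ r t, f (xb r t) = X hW.good r t) (i : Fin D.rank)
    (t : Kˣ) : f (nb hW i t) = nElt hW.good (pRoot hW i) t := by
  rw [nb, map_mul, map_mul, hf, hf, nElt]

theorem map_hb (hW : GoodWeyl D) (hf : ∀ r t, f (xb r t) = X hW.good r t) (i : Fin D.rank)
    (t : Kˣ) : f (hb hW i t) = hT K (pRoot hW i) t := by
  rw [hb, map_mul, map_nb hW hf, map_nb hW hf, hElt_eq hW]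

theorem map_hBar_le (hW : GoodWeyl D) (hf : ∀ r t, f (xb r t) = X hW.good r t)
    {g : D.SteinbergGroup K} (hg : g ∈ hBar hW) : f g ∈ D.diagonalSubgroup K := by
  induction hg using Subgroup.closure_induction with
  | mem x hx => obtain ⟨i, t, rfl⟩ := hx; rw [map_hb hW hf]; exact hT_mem_diagonal hW _ _
  | one => simp
  | mul x y _ _ hx hy => simpa using mul_mem hx hy
  | inv x _ hx => simpa using inv_mem hx

theorem map_nBar_le (hW : GoodWeyl D) (hf : ∀ r t, f (xb r t) = X hW.good r t)
    {g : D.SteinbergGroup K} (hg : g ∈ nBar hW) : f g ∈ D.monomialSubgroup K := by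
  induction hg using Subgroup.closure_induction with
  | mem x hx =>
    obtain ⟨i, t, rfl⟩ := hx
    rw [map_nb hW hf, show nElt hW.good (pRoot hW i) t = hT K (pRoot hW i) t * nR hW i from
      nWord_eq hW i t]
    exact mul_mem (diag_le_monomial D (hT_mem_diagonal hW _ _)) (nR_mem_monomial hW i)
  | one => simp
  | mul x y _ _ hx hy => simpa using mul_mem hx hy
  | inv x _ hx => simpa using inv_mem hx

theorem map_bBar_le (hW : GoodWeyl D) (hf : ∀ r t, f (xb r t) = X hW.good r t)
    {g : D.SteinbergGroup K} (hg : g ∈ bBar hW) : f g ∈ D.borelSubgroup K := by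
  have h : bBar hW ≤ (D.borelSubgroup K).comap f := by
    refine sup_le ?_ fun x hx => diag_le_borel D (map_hBar_le hW hf hx)
    rw [genB, Subgroup.closure_le]
    rintro _ ⟨r, hr, t, rfl⟩
    rw [SetLike.mem_coe, Subgroup.mem_comap, hf]
    exact pos_le_borel D (X_mem_pos hW.good hr t)
  exact h hg

theorem MonBar.map {g : D.SteinbergGroup K} {π : Equiv.Perm (Root D)} (hg : MonBar g π)
    (hW : GoodWeyl D) (hf : ∀ r t, f (xb r t) = X hW.good r t) : MonBy hW (f g) π := by
  intro r
  obtain ⟨-, c, hc, hc'⟩ := hg r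
  exact ⟨c, fun t => by rw [← hf, ← map_inv, ← map_mul, ← map_mul, hc, hf],
    fun t => by rw [← hf, ← map_inv, ← map_mul, ← map_mul, hc', hf]⟩

variable {C : Weyl.Cert D.rank} {M : CoxeterMatrix (Fin D.rank)} {R : Weyl.RootTable}

/-- The kernel of the map onto root elements lies in the torus. -/
theorem mem_hBar_of_map_eq_one (hP : GoodPres D) (h : Weyl.RootGood C M R)
    (hf : ∀ r t, f (xb r t) = X hP.good r t) {g : D.SteinbergGroup K} (hg : f g = 1) :
    g ∈ hBar hP.toGoodWeyl := by
  have hW := hP.toGoodWeyl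
  obtain ⟨b, hb, m, hm, b', hb', rfl⟩ := inBig_all hP g
  have huniq : ∀ {x : D.SteinbergGroup K} {π ρ : Equiv.Perm (Root D)},
      MonBar x π → MonBar x ρ → π = ρ :=
    fun h1 h2 => (h1.map hW hf).unique (h2.map hW hf)
  have hmB : f m ∈ D.borelSubgroup K := by
    rw [map_mul, map_mul] at hg
    have : f m = (f b)⁻¹ * (f b')⁻¹ := by
      calc f m = (f b)⁻¹ * (f b * f m * f b') * (f b')⁻¹ := by group
        _ = (f b)⁻¹ * (f b')⁻¹ := by rw [hg, mul_one]
    rw [this]
    exact mul_mem (inv_mem (map_bBar_le hW hf hb)) (inv_mem (map_bBar_le hW hf hb'))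
  have hmH : f m ∈ D.diagonalSubgroup K :=
    borel_inf_monomial (F := K) hW h ▸ (⟨hmB, map_nBar_le hW hf hm⟩ :
      f m ∈ D.borelSubgroup K ⊓ D.monomialSubgroup K)
  obtain ⟨π, hπ⟩ := exists_monBar hP hm
  obtain rfl : π = 1 := (hπ.map hW hf).unique (monBy_diag hW hmH)
  have hmh := mem_hBar_of_monBar_one hP h hm huniq hπ
  obtain ⟨u, hu, a, ha, e⟩ := (mem_bBar_iff hP).1
    (show b * m * b' ∈ bBar hW from mul_mem (mul_mem hb (Subgroup.mem_sup_right hmh)) hb')
  rw [e] at hg ⊢
  have hfu : f u ∈ D.posUnipotent K ⊓ D.diagonalSubgroup K := by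
    refine Subgroup.mem_inf.2 ⟨?_, ?_⟩
    · rw [posUnipotent_eq_rootGen hW.good, ← map_genB_le hW hf]
      exact Subgroup.mem_map_of_mem f hu
    · rw [show f u = (f a)⁻¹ from eq_inv_of_mul_eq_one_left (by rwa [← map_mul])]
      exact inv_mem (map_hBar_le hW hf ha)
  rw [pos_inf_diag hW, Subgroup.mem_bot] at hfu
  rw [eq_one_of_genB hW hf hu hfu, one_mul]
  exact ha

/-- The kernel is central. -/
theorem ker_le_center (hP : GoodPres D) (h : Weyl.RootGood C M R)
    (hf : ∀ r t, f (xb r t) = X hP.good r t) : f.ker ≤ Subgroup.center (D.SteinbergGroup K) := by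
  intro g hg
  rw [MonoidHom.mem_ker] at hg
  have hmon := monBar_of_hBar hP (mem_hBar_of_map_eq_one hP h hf hg)
  rw [Subgroup.mem_center_iff]
  intro x
  have : x ∈ Subgroup.centralizer ({g} : Set (D.SteinbergGroup K)) := by
    refine (?_ : Subgroup.closure {x | ∃ (r : Root D) (t : K), xb r t = x} ≤ _)
      ((closure_xb (K := K) (D := D)).symm ▸ Subgroup.mem_top x)
    rw [Subgroup.closure_le]
    rintro _ ⟨r, t, rfl⟩
    rw [SetLike.mem_coe, Subgroup.mem_centralizer_singleton_iff]
    obtain ⟨-, c, hc, -⟩ := hmon r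
    rw [Equiv.Perm.one_apply] at hc
    have e : (c : K) * t = t := by
      refine X_injective hP.good r ?_
      show X hP.good r ((c : K) * t) = X hP.good r t
      rw [← hf, ← hc, map_mul, map_mul, map_inv, hg, hf]
      group
    have := hc t
    rw [e] at this
    conv_lhs => rw [← this]
    group
  exact Subgroup.mem_centralizer_singleton_iff.1 this

end CfsgLib.SteinbergPres
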