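import Cfsg.Agent.SteinbergPres.Unipotent
import Cfsg.Agent.Chevalley.WeylGroup
import Mathlib.GroupTheory.NoncommPiCoprod
/-!
The torus and the monomial subgroup of the presented group; an element of the monomial subgroup
that maps into `H` lies in the torus.
-/

set_option autoImplicit false

namespace CfsgLib.SteinbergPres

open Cfsg.Lie CfsgLib.Chevalley
open scoped MatrixGroups

variable {D : ChevalleyDatum} {K : Type*} [Field K]

/-- `t ↦ h̄_i(t)`. -/
def hbHom (hW : GoodWeyl D) (i : Fin D.rank) : Kˣ →* D.SteinbergGroup K where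
  toFun := hb hW i
  map_one' := hb_one hW i
  map_mul' t u := (hb_mul hW i t u).symm

theorem hbHom_commute (hP : GoodPres D) :
    Pairwise fun i j => ∀ t u : Kˣ,
      Commute (hbHom hP.toGoodWeyl i t) (hbHom hP.toGoodWeyl j u) :=
  fun i j _ t u => hb_comm hP i j t u

/-- `c ↦ ∏ h̄_k(c_k)`. -/
noncomputable def hbTor (hP : GoodPres D) : (Fin D.rank → Kˣ) →* D.SteinbergGroup K :=
  MonoidHom.noncommPiCoprod (hbHom hP.toGoodWeyl) (hbHom_commute hP)

theorem hbTor_single (hP : GoodPres D) (i : Fin D.rank) (t : Kˣ) :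
    hbTor hP (Pi.mulSingle i t) = hb hP.toGoodWeyl i t :=
  MonoidHom.noncommPiCoprod_mulSingle (hbHom hP.toGoodWeyl) i t

/-- The torus `H̄`. -/
def hBar (hW : GoodWeyl D) : Subgroup (D.SteinbergGroup K) :=
  Subgroup.closure {g | ∃ i t, hb hW i t = g}

theorem hb_mem_hBar (hW : GoodWeyl D) (i : Fin D.rank) (t : Kˣ) : hb hW i t ∈ hBar hW :=
  Subgroup.subset_closure ⟨i, t, rfl⟩

theorem hBar_eq_range (hP : GoodPres D) :
    hBar (K := K) hP.toGoodWeyl = (hbTor hP).range := by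
  apply le_antisymm
  · rw [hBar, Subgroup.closure_le]
    rintro _ ⟨i, t, rfl⟩
    exact ⟨_, hbTor_single hP i t⟩
  · rw [hbTor, MonoidHom.noncommPiCoprod_range]
    refine iSup_le fun i => ?_
    rintro _ ⟨t, rfl⟩
    exact hb_mem_hBar _ i t

theorem hBar_eq_closure (hW : GoodWeyl D) :
    hBar hW = Subgroup.closure {h | ∃ (i : ℕ) (t : K), i < D.rank ∧ t ≠ 0 ∧
      h = PresentedGroup.mk (D.steinbergRels K) (D.stH (D.simple i) t)} := by
  rw [hBar]
  congr 1
  ext g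
  constructor
  · rintro ⟨i, t, rfl⟩
    exact ⟨i, t, i.isLt, t.ne_zero, (mk_stH_eq hW i t).symm⟩
  · rintro ⟨i, t, hi, ht, rfl⟩
    exact ⟨⟨i, hi⟩, Units.mk0 t ht, (mk_stH_eq hW ⟨i, hi⟩ (Units.mk0 t ht)).symm⟩

/-- `g` carries each root subgroup to that of the image root, with inverse scalars on opposite
roots. -/
def MonBar (g : D.SteinbergGroup K) (π : Equiv.Perm (Root D)) : Prop :=
  ∀ r, π r.rev = (π r).rev ∧ ∃ c : Kˣ, (∀ t, g * xb r t * g⁻¹ = xb (π r) ((c : K) * t)) ∧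
    ∀ t, g * xb r.rev t * g⁻¹ = xb (π r).rev (((c⁻¹ : Kˣ) : K) * t)

theorem MonBar.one : MonBar (1 : D.SteinbergGroup K) 1 :=
  fun r => ⟨rfl, 1, fun t => by simp, fun t => by simp⟩

theorem MonBar.mul {g h : D.SteinbergGroup K} {π ρ : Equiv.Perm (Root D)}
    (hg : MonBar g π) (hh : MonBar h ρ) : MonBar (g * h) (π * ρ) := by
  intro r
  obtain ⟨e, c, hc, hc'⟩ := hh r
  obtain ⟨e', d, hd, hd'⟩ := hg (ρ r)
  refine ⟨by rw [Equiv.Perm.mul_apply, e, e', Equiv.Perm.mul_apply], d * c, fun t => ?_,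
    fun t => ?_⟩
  · rw [show g * h * xb r t * (g * h)⁻¹ = g * (h * xb r t * h⁻¹) * g⁻¹ by group, hc, hd,
      Units.val_mul, mul_assoc, Equiv.Perm.mul_apply]
  · rw [show g * h * xb r.rev t * (g * h)⁻¹ = g * (h * xb r.rev t * h⁻¹) * g⁻¹ by group, hc', hd',
      mul_inv, Units.val_mul, mul_assoc, Equiv.Perm.mul_apply]

theorem MonBar.inv {g : D.SteinbergGroup K} {π : Equiv.Perm (Root D)} (hg : MonBar g π) :
    MonBar g⁻¹ π⁻¹ := by
  intro r
  obtain ⟨e, c, hc, hc'⟩ := hg (π⁻¹ r)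
  rw [show π (π⁻¹ r) = r from π.apply_symm_apply r] at e hc hc'
  refine ⟨π.injective (by rw [e]; exact π.apply_symm_apply _), c⁻¹, fun t => ?_, fun t => ?_⟩
  · have := hc ((c⁻¹ : Kˣ) * t)
    rw [← mul_assoc, ← Units.val_mul, mul_inv_cancel, Units.val_one, one_mul] at this
    rw [← this]
    group
  · have := hc' (((c⁻¹)⁻¹ : Kˣ) * t)
    rw [← mul_assoc, ← Units.val_mul, mul_inv_cancel, Units.val_one, one_mul] at this
    rw [← this]
    group

theorem monBar_nb (hP : GoodPres D) (i : Fin D.rank) (t : Kˣ) :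
    MonBar (nb hP.toGoodWeyl i t) (wPerm hP.toGoodWeyl i) := by
  intro r
  have hW := hP.toGoodWeyl
  obtain ⟨e, he⟩ : ∃ e : Kˣ, (e : K) = (eta D i r : K) := by
    have h : (eta D i r : K) * eta D i r = 1 := by rw [← Int.cast_mul, hW.eta_sq, Int.cast_one]
    exact ⟨⟨_, _, h, h⟩, rfl⟩
  have hee : e⁻¹ = e := inv_eq_of_mul_eq_one_right (Units.ext (by
    rw [Units.val_mul, he, ← Int.cast_mul, hW.eta_sq, Int.cast_one, Units.val_one]))
  refine ⟨hW.wPerm_rev i r, e * t ^ (-D.cartan i r), fun u => ?_, fun u => ?_⟩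
  · rw [nb_conj_xb hP, Units.val_mul, he]
  · rw [nb_conj_xb hP, hW.wPerm_rev, hW.good.cartan_rev, hW.eta_rev, neg_neg, mul_inv, hee,
      zpow_neg, inv_inv, Units.val_mul, he]

theorem monBar_hb (hP : GoodPres D) (i : Fin D.rank) (t : Kˣ) :
    MonBar (hb hP.toGoodWeyl i t) 1 := fun r =>
  ⟨rfl, t ^ D.cartan i r, fun u => hb_conj_xb hP i t r u, fun u => by
    rw [hb_conj_xb hP, hP.good.cartan_rev, zpow_neg]; rfl⟩

theorem monBar_of_hBar (hP : GoodPres D) {g : D.SteinbergGroup K}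
    (hg : g ∈ hBar hP.toGoodWeyl) : MonBar g 1 := by
  induction hg using Subgroup.closure_induction with
  | mem x hx => obtain ⟨i, t, rfl⟩ := hx; exact monBar_hb hP i t
  | one => exact MonBar.one
  | mul x y _ _ hx hy => simpa using hx.mul hy
  | inv x _ hx => simpa using hx.inv

theorem MonBar.conj_genB {g : D.SteinbergGroup K} {π : Equiv.Perm (Root D)} (hg : MonBar g π)
    {S T : Set (Root D)} (hST : ∀ r ∈ S, π r ∈ T) {u : D.SteinbergGroup K}
    (hu : u ∈ genB D K S) : g * u * g⁻¹ ∈ genB D K T := by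
  induction hu using Subgroup.closure_induction with
  | mem x hx =>
    obtain ⟨r, hr, t, rfl⟩ := hx
    obtain ⟨-, c, hc, -⟩ := hg r
    rw [hc]
    exact xb_mem_genB (hST r hr) _
  | one => simp
  | mul x y _ _ hx hy =>
    rw [show g * (x * y) * g⁻¹ = (g * x * g⁻¹) * (g * y * g⁻¹) by group]
    exact mul_mem hx hy
  | inv x _ hx =>
    rw [show g * x⁻¹ * g⁻¹ = (g * x * g⁻¹)⁻¹ by group]
    exact inv_mem hx

/-- The monomial subgroup `N̄`, generated by all `n̄_i(t)`. -/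
def nBar (hW : GoodWeyl D) : Subgroup (D.SteinbergGroup K) :=
  Subgroup.closure {g | ∃ i t, nb hW i t = g}

theorem nb_mem_nBar (hW : GoodWeyl D) (i : Fin D.rank) (t : Kˣ) : nb hW i t ∈ nBar hW :=
  Subgroup.subset_closure ⟨i, t, rfl⟩

theorem hBar_le_nBar (hW : GoodWeyl D) : hBar (K := K) hW ≤ nBar hW := by
  rw [hBar, Subgroup.closure_le]
  rintro _ ⟨i, t, rfl⟩
  exact mul_mem (nb_mem_nBar hW i t) (nb_mem_nBar hW i (-1))

theorem exists_monBar (hP : GoodPres D) {g : D.SteinbergGroup K}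
    (hg : g ∈ nBar hP.toGoodWeyl) : ∃ π : Equiv.Perm (Root D), MonBar g π := by
  induction hg using Subgroup.closure_induction with
  | mem x hx => obtain ⟨i, t, rfl⟩ := hx; exact ⟨_, monBar_nb hP i t⟩
  | one => exact ⟨1, MonBar.one⟩
  | mul x y _ _ hx hy => exact ⟨_, hx.choose_spec.mul hy.choose_spec⟩
  | inv x _ hx => exact ⟨_, hx.choose_spec.inv⟩

theorem nb_conj_hb (hP : GoodPres D) (i j : Fin D.rank) (t u : Kˣ) :
    nb hP.toGoodWeyl i t * hb hP.toGoodWeyl j u * (nb hP.toGoodWeyl i t)⁻¹ ∈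
      hBar hP.toGoodWeyl := by
  have hW := hP.toGoodWeyl
  rw [show nb hW i t * hb hW j u * (nb hW i t)⁻¹ = hb hW j u *
    ((hb hW j u⁻¹ * nb hW i t * (hb hW j u⁻¹)⁻¹) * (nb hW i t)⁻¹) by
    rw [show hb hW j u⁻¹ = (hb hW j u)⁻¹ from map_inv (hbHom hW j) u]; group,
    hb_conj_nb hP, nb_mul_inv]
  exact mul_mem (hb_mem_hBar hW j u) (mul_mem (hb_mem_hBar hW _ _) (inv_mem (hb_mem_hBar hW _ _)))

theorem nBar_le_normalizer (hP : GoodPres D) :
    nBar hP.toGoodWeyl ≤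
      Subgroup.normalizer (hBar (K := K) hP.toGoodWeyl : Set (D.SteinbergGroup K)) := by
  have hW := hP.toGoodWeyl
  have key : ∀ i (t : Kˣ), ∀ g ∈ hBar (K := K) hW, nb hW i t * g * (nb hW i t)⁻¹ ∈ hBar hW := by
    intro i t g hg
    induction hg using Subgroup.closure_induction with
    | mem x hx => obtain ⟨j, u, rfl⟩ := hx; exact nb_conj_hb hP i j t u
    | one => simp
    | mul x y _ _ hx hy =>
      rw [show nb hW i t * (x * y) * (nb hW i t)⁻¹ =
        (nb hW i t * x * (nb hW i t)⁻¹) * (nb hW i t * y * (nb hW i t)⁻¹) by group]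
      exact mul_mem hx hy
    | inv x _ hx =>
      rw [show nb hW i t * x⁻¹ * (nb hW i t)⁻¹ = (nb hW i t * x * (nb hW i t)⁻¹)⁻¹ by group]
      exact inv_mem hx
  rw [nBar, Subgroup.closure_le]
  rintro _ ⟨i, t, rfl⟩
  rw [SetLike.mem_coe, Subgroup.mem_normalizer_iff]
  refine fun g => ⟨key i t g, fun hg => ?_⟩
  have := key i (-t) _ hg
  rwa [nb_neg, inv_inv, show (nb hW i t)⁻¹ * (nb hW i t * g * (nb hW i t)⁻¹) * nb hW i t = g by
    group] at this

/-- Modulo `H̄`, conjugation in `N̄` follows the permutations. -/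
theorem nb_conj_mod (hP : GoodPres D) {g : D.SteinbergGroup K} {π : Equiv.Perm (Root D)}
    (hπ : MonBar g π) {i k : Fin D.rank}
    (h : π * wPerm hP.toGoodWeyl i * π⁻¹ = wPerm hP.toGoodWeyl k) :
    g * nb hP.toGoodWeyl i 1 * g⁻¹ * (nb hP.toGoodWeyl k 1)⁻¹ ∈ hBar hP.toGoodWeyl := by
  have hW := hP.toGoodWeyl
  obtain ⟨hrev, c, hc, hc'⟩ := hπ (pRoot hW i)
  have hneg : wPerm hW k (π (pRoot hW i)) = (π (pRoot hW i)).rev := by
    rw [← h]
    simp [hW.wPerm_pRoot, hrev]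
  have hg : g * nb hW i 1 * g⁻¹ = xb (π (pRoot hW i)) (c : K) *
      xb (π (pRoot hW i)).rev (-(c⁻¹ : Kˣ) : K) * xb (π (pRoot hW i)) (c : K) := by
    rw [nb, show ∀ n x y z : D.SteinbergGroup K,
      n * (x * y * z) * n⁻¹ = (n * x * n⁻¹) * (n * y * n⁻¹) * (n * z * n⁻¹) from
      fun n x y z => by group, hc, hc']
    simp
  rcases eq_pRoot_of_wPerm_rev hW hneg with e | e
  · rw [hg, e, ← nb, nb_eq_hb_mul, mul_inv_cancel_right]
    exact hb_mem_hBar hW k c
  · have hn : g * nb hW i 1 * g⁻¹ = nb hW k 1 * nb hW k (-c) * (nb hW k 1)⁻¹ := by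
      rw [hg, e, Fin.rev_rev]
      conv_rhs => arg 1; arg 2; rw [nb]
      rw [show ∀ n x y z : D.SteinbergGroup K,
        n * (x * y * z) * n⁻¹ = (n * x * n⁻¹) * (n * y * n⁻¹) * (n * z * n⁻¹) from
        fun n x y z => by group, nb_conj_xb hP, nb_conj_xb hP, hW.wPerm_rev, hW.wPerm_pRoot,
        Fin.rev_rev, hW.eta_rev, hW.eta_pRoot]
      simp
    rw [hn, nb_eq_hb_mul hW k (-c)]
    have := (Subgroup.mem_normalizer_iff.1 (nBar_le_normalizer hP (nb_mem_nBar hW k (1 : Kˣ)))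
      (hb hW k (-c))).1 (hb_mem_hBar hW k (-c))
    simpa only [SetLike.mem_coe, mul_assoc, mul_inv_cancel, mul_one] using this

variable {C : Weyl.Cert D.rank} {M : CoxeterMatrix (Fin D.rank)} {R : Weyl.RootTable}

/-- An element of `N̄` that permutes the roots trivially lies in `H̄`. -/
theorem mem_hBar_of_monBar_one (hP : GoodPres D) (h : Weyl.RootGood C M R)
    {g : D.SteinbergGroup K} (hg : g ∈ nBar hP.toGoodWeyl)
    (huniq : ∀ {x : D.SteinbergGroup K} {π ρ : Equiv.Perm (Root D)},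
      MonBar x π → MonBar x ρ → π = ρ) (h1 : MonBar g 1) : g ∈ hBar hP.toGoodWeyl := by
  have hW := hP.toGoodWeyl
  set N := nBar (K := K) hW with hN
  have hnorm : ((hBar (K := K) hW).subgroupOf N).Normal :=
    (Subgroup.normal_subgroupOf_iff_le_normalizer (hBar_le_nBar hW)).2 (nBar_le_normalizer hP)
  let f : Fin D.rank → ↥N ⧸ (hBar (K := K) hW).subgroupOf N :=
    fun i => QuotientGroup.mk ⟨nb hW i 1, nb_mem_nBar hW i 1⟩
  have hperm : ∀ i, wPerm hW i * wPerm hW i = 1 := fun i =>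
    Equiv.ext fun r => hW.wPerm_wPerm i r
  have hsq : ∀ i, f i * f i = 1 := fun i => by
    refine mk_mul_self_eq (p := (⟨nb hW i 1, nb_mem_nBar hW i 1⟩ : ↥N)) ?_
    have : nb hW i (1 : Kˣ) * nb hW i 1 = (hb hW i (-1))⁻¹ := by
      rw [hb, nb_neg, mul_inv_rev, inv_inv]
    show nb hW i (1 : Kˣ) * nb hW i 1 ∈ hBar hW
    rw [this]
    exact inv_mem (hb_mem_hBar hW i _)
  have hconj : ∀ (x : ↥N) (π : Equiv.Perm (Root D)), MonBar (x : D.SteinbergGroup K) π → ∀ i k,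
      π * wPerm hW i * π⁻¹ = wPerm hW k →
        (QuotientGroup.mk x : ↥N ⧸ _) * f i * (QuotientGroup.mk x)⁻¹ = f k := by
    intro x π hx i k hp
    exact conj_mk_eq (p := (⟨nb hW i 1, nb_mem_nBar hW i 1⟩ : ↥N))
      (q := (⟨nb hW k 1, nb_mem_nBar hW k 1⟩ : ↥N)) (nb_conj_mod hP hx hp)
  have hlift : M.IsLiftable f := by
    intro i j
    have hrel : (wPerm hW i * wPerm hW j) ^ M i j = 1 := by
      rw [wPerm_eq_rootPerm hW h, wPerm_eq_rootPerm hW h, ← map_mul, ← map_pow,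
        show (M.simple i * M.simple j) ^ M i j = 1 from M.toCoxeterSystem.simple_mul_simple_pow i j,
        map_one]
    let ni : ↥N := ⟨nb hW i 1, nb_mem_nBar hW i 1⟩
    let nj : ↥N := ⟨nb hW j 1, nb_mem_nBar hW j 1⟩
    have hp : ∀ c : ℕ, MonBar (((ni * nj) ^ c : ↥N) : D.SteinbergGroup K)
        ((wPerm hW i * wPerm hW j) ^ c) := by
      intro c
      induction c with
      | zero => simpa using MonBar.one
      | succ c ih =>
        simp only [pow_succ, Subgroup.coe_mul]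
        exact ih.mul ((monBar_nb hP i 1).mul (monBar_nb hP j 1))
    rcases Nat.even_or_odd' (M i j) with ⟨c, hc | hc⟩
    · rcases c with _ | c
      · simp [hc]
      rw [hc, show 2 * (c + 1) = 2 * c + 2 by ring] at hrel ⊢
      rw [pow_even_eq (hperm i) (hperm j)] at hrel
      rw [pow_even_eq (hsq i) (hsq j)]
      have := hconj ((ni * nj) ^ c * ni) _ ((hp c).mul (monBar_nb hP i 1)) j j
        ((mul_eq_one_iff_eq_inv.1 hrel).trans (inv_eq_of_mul_eq_one_right (hperm j)))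
      simp only [QuotientGroup.mk_mul, QuotientGroup.mk_pow] at this
      rw [this, hsq]
    · rw [hc] at hrel ⊢
      rw [pow_odd_eq (hperm i) (hperm j)] at hrel
      rw [pow_odd_eq (hsq i) (hsq j)]
      have := hconj ((ni * nj) ^ c) _ (hp c) i j
        ((mul_eq_one_iff_eq_inv.1 hrel).trans (inv_eq_of_mul_eq_one_right (hperm j)))
      simp only [QuotientGroup.mk_mul, QuotientGroup.mk_pow] at this
      rw [this, hsq]
  obtain ⟨ψ, hψ⟩ : ∃ ψ : M.Group →* ↥N ⧸ (hBar (K := K) hW).subgroupOf N,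
      ∀ i, ψ (M.simple i) = f i :=
    ⟨M.toCoxeterSystem.lift ⟨f, hlift⟩, fun i => by
      rw [← CoxeterMatrix.toCoxeterSystem_simple]
      exact M.toCoxeterSystem.lift_apply_simple hlift i⟩
  have key : ∀ x ∈ N, ∃ hx : x ∈ N, ∃ w : M.Group,
      (QuotientGroup.mk (⟨x, hx⟩ : ↥N) : ↥N ⧸ _) = ψ w ∧ MonBar x (h.rootPerm w) := by
    intro x hx
    rw [hN, nBar] at hx
    induction hx using Subgroup.closure_induction with
    | mem x hx =>
      obtain ⟨i, t, rfl⟩ := hx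
      refine ⟨nb_mem_nBar hW i t, M.simple i, ?_, wPerm_eq_rootPerm hW h i ▸ monBar_nb hP i t⟩
      rw [hψ]
      refine (QuotientGroup.eq).2 ?_
      rw [Subgroup.mem_subgroupOf, Subgroup.coe_mul, Subgroup.coe_inv]
      show (nb hW i t)⁻¹ * nb hW i 1 ∈ hBar hW
      rw [nb_eq_hb_mul hW i t, mul_inv_rev, mul_assoc]
      have h2 := (Subgroup.mem_normalizer_iff.1
        (nBar_le_normalizer hP (inv_mem (nb_mem_nBar hW i (1 : Kˣ)))) _).1
        (inv_mem (hb_mem_hBar hW i t))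
      simpa only [SetLike.mem_coe, inv_inv, mul_assoc] using h2
    | one =>
      exact ⟨one_mem _, 1, by rw [map_one]; rfl, by rw [map_one]; exact MonBar.one⟩
    | mul x y _ _ hx hy =>
      obtain ⟨hx, v, hv, hv'⟩ := hx
      obtain ⟨hy, w, hw, hw'⟩ := hy
      exact ⟨mul_mem hx hy, v * w, by rw [map_mul, ← hv, ← hw]; rfl,
        by rw [map_mul]; exact hv'.mul hw'⟩
    | inv x _ hx =>
      obtain ⟨hx, v, hv, hv'⟩ := hx
      exact ⟨inv_mem hx, v⁻¹, by rw [map_inv, ← hv]; rfl, by rw [map_inv]; exact hv'.inv⟩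
  obtain ⟨hgN, w, hw, hw'⟩ := key g hg
  have hw1 : w = 1 := h.rootPerm_injective (by rw [map_one]; exact huniq hw' h1)
  rw [hw1, map_one, QuotientGroup.eq_one_iff, Subgroup.mem_subgroupOf] at hw
  exact hw

end CfsgLib.SteinbergPres
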