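import Cfsg.Agent.SteinbergPres.Embedding
/-!
The tables of type E6 sit inside those of type E7.
-/

set_option autoImplicit false

namespace CfsgLib.SteinbergPres

open Cfsg.Lie

/-- The index in type E7 of each root of type E6. -/
def embE6 : List ℕ := [
  6, 10, 13, 15, 16, 19, 21, 22, 24, 25, 26, 28, 29, 30, 31, 32,
  35, 37, 38, 40, 41, 42, 44, 45, 46, 47, 49, 50, 51, 52, 54, 55,
  56, 58, 59, 61, 64, 66, 67, 69, 70, 71, 73, 74, 75, 76, 78, 79,
  80, 81, 83, 84, 85, 87, 88, 90, 93, 94, 95, 96, 97, 99, 100, 101,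
  103, 104, 106, 109, 110, 112, 115, 119]

/-- The partial inverse of `embE6`, with 72 for the other roots. -/
def invE6 : List ℕ := [
  72, 72, 72, 72, 72, 72, 0, 72, 72, 72, 1, 72, 72, 2, 72, 3,
  4, 72, 72, 5, 72, 6, 7, 72, 8, 9, 10, 72, 11, 12, 13, 14,
  15, 72, 72, 16, 72, 17, 18, 72, 19, 20, 21, 72, 22, 23, 24, 25,
  72, 26, 27, 28, 29, 72, 30, 31, 32, 72, 33, 34, 72, 35, 72, 72,
  36, 72, 37, 38, 72, 39, 40, 41, 72, 42, 43, 44, 45, 72, 46, 47,
  48, 49, 72, 50, 51, 52, 72, 53, 54, 72, 55, 72, 72, 56, 57, 58,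
  59, 60, 72, 61, 62, 63, 72, 64, 65, 72, 66, 72, 72, 67, 68, 72,
  69, 72, 72, 70, 72, 72, 72, 71, 72, 72, 72, 72, 72, 72]

theorem chkSub_E6 : chkSub chevE6 chevE7 embE6 invE6 = true := by decide +kernel

end CfsgLib.SteinbergPres
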