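import Cfsg.Agent.SteinbergPres.Basic
import Cfsg.Agent.Chevalley.Borel
/-!
Subgroups of the presented group generated by root elements of positive roots; a homomorphism onto
root elements is injective on the positive side.
-/

set_option autoImplicit false

namespace CfsgLib.SteinbergPres

open Cfsg.Lie CfsgLib.Chevalley
open scoped MatrixGroups

variable {D : ChevalleyDatum} {K : Type*} [Field K]

/-- The subgroup generated by the root elements of the roots in `S`. -/
def genB (D : ChevalleyDatum) (K : Type*) [Field K] (S : Set (Root D)) :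
    Subgroup (D.SteinbergGroup K) :=
  Subgroup.closure {g | ∃ r ∈ S, ∃ t : K, xb r t = g}

theorem xb_mem_genB {S : Set (Root D)} {r : Root D} (hr : r ∈ S) (t : K) :
    xb r t ∈ genB D K S := Subgroup.subset_closure ⟨r, hr, t, rfl⟩

theorem genB_mono {S T : Set (Root D)} (h : S ⊆ T) : genB D K S ≤ genB D K T :=
  Subgroup.closure_mono fun _ ⟨r, hr, t, e⟩ => ⟨r, h hr, t, e⟩

/-- A root element of a positive root normalises the subgroup of every set of positive roots that
contains the roots above it. -/
theorem xb_conj_genB (hW : GoodWeyl D) {a : Root D} (ha : half D ≤ a) {S : Set (Root D)}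
    (hS : ∀ s ∈ S, half D ≤ (s : ℕ) ∧ ∀ k : Root D, (a : ℕ) < k → (s : ℕ) < k → k ∈ S) (v : K)
    {g : D.SteinbergGroup K} (hg : g ∈ genB D K S) :
    xb a v * g * (xb a v)⁻¹ ∈ genB D K S := by
  induction hg using Subgroup.closure_induction with
  | mem x hx =>
    obtain ⟨s, hs, w, rfl⟩ := hx
    rcases eq_or_ne s a with rfl | hsa
    · rw [xb_mul, xb_inv, xb_mul, show v + w + -v = w by ring]
      exact xb_mem_genB hs w
    have hne : (s : ℕ) ≠ D.neg a := by
      rw [hW.good.neg_fin a, Fin.val_rev]
      have := hW.good.two_half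
      have := (hS s hs).1
      omega
    have e := stRels.comm a s (-v) w a.isLt s.isLt (fun h => hsa (Fin.ext h)) hne
    change (xb s w)⁻¹ * (xb a (-v))⁻¹ * xb s w * xb a (-v) = _ at e
    rw [← xb_inv, inv_inv] at e
    rw [show xb a v * xb s w * (xb a v)⁻¹ =
      xb s w * ((xb s w)⁻¹ * xb a v * xb s w * (xb a v)⁻¹) by group, e]
    refine mul_mem (xb_mem_genB hs w) (Subgroup.list_prod_mem _ fun y hy => ?_)
    simp only [ChevalleyDatum.commWord, List.map_map, List.mem_map] at hy
    obtain ⟨c, hc, rfl⟩ := hy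
    obtain ⟨hlt, h1, h2⟩ := Good.commTerms_key (b := false) hW.toGoodComm
      (r := a) (s := s) (by simpa [key] using ha) (by simpa [key] using (hS s hs).1) hc
    simp only [key, Bool.false_eq_true, if_false] at h1 h2
    rw [Function.comp_apply, xb_eq_stGen hlt]
    exact xb_mem_genB ((hS s hs).2 ⟨c.1, hlt⟩ h1 h2) _
  | one => simp
  | mul x y _ _ hx hy =>
    rw [show xb a v * (x * y) * (xb a v)⁻¹ =
      (xb a v * x * (xb a v)⁻¹) * (xb a v * y * (xb a v)⁻¹) by group]
    exact mul_mem hx hy
  | inv x _ hx =>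
    rw [show xb a v * x⁻¹ * (xb a v)⁻¹ = (xb a v * x * (xb a v)⁻¹)⁻¹ by group]
    exact inv_mem hx

/-- Splitting off one root `a` that normalises the rest. -/
theorem exists_split_genB (hW : GoodWeyl D) {a : Root D} (ha : half D ≤ a) {S T : Set (Root D)}
    (hS : ∀ s ∈ S, half D ≤ (s : ℕ) ∧ ∀ k : Root D, (a : ℕ) < k → (s : ℕ) < k → k ∈ S)
    (hT : ∀ r ∈ T, r = a ∨ r ∈ S) {g : D.SteinbergGroup K} (hg : g ∈ genB D K T) :
    ∃ u ∈ genB D K S, ∃ v : K, g = u * xb a v := by
  induction hg using Subgroup.closure_induction with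
  | mem x hx =>
    obtain ⟨r, hr, t, rfl⟩ := hx
    rcases hT r hr with rfl | hr
    · exact ⟨1, one_mem _, t, (one_mul _).symm⟩
    · exact ⟨_, xb_mem_genB hr t, 0, by rw [xb_zero, mul_one]⟩
  | one => exact ⟨1, one_mem _, 0, by rw [xb_zero, mul_one]⟩
  | mul x y _ _ hx hy =>
    obtain ⟨u, hu, v, rfl⟩ := hx
    obtain ⟨u', hu', v', rfl⟩ := hy
    refine ⟨u * (xb a v * u' * (xb a v)⁻¹), mul_mem hu (xb_conj_genB hW ha hS v hu'), v + v', ?_⟩
    rw [← xb_mul]
    group
  | inv x _ hx =>
    obtain ⟨u, hu, v, rfl⟩ := hx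
    refine ⟨xb a (-v) * u⁻¹ * (xb a (-v))⁻¹, xb_conj_genB hW ha hS _ (inv_mem hu), -v, ?_⟩
    rw [← xb_inv]
    group

/-- The roots of index at least `m`. -/
def geSet (D : ChevalleyDatum) (m : ℕ) : Set (Root D) := {r | m ≤ (r : ℕ)}

/-- A homomorphism to the root elements, on the positive side. -/
theorem map_genB_le (hW : GoodWeyl D) {f : D.SteinbergGroup K →* GL D.Idx K}
    (hf : ∀ r t, f (xb r t) = X hW.good r t) (S : Set (Root D)) :
    (genB D K S).map f = rootGen hW.good K S := by
  rw [genB, MonoidHom.map_closure]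
  apply le_antisymm
  · rw [Subgroup.closure_le]
    rintro _ ⟨_, ⟨r, hr, t, rfl⟩, rfl⟩
    rw [hf]
    exact X_mem_rootGen hW.good hr t
  · refine rootGen_le hW.good fun r hr t => ?_
    exact Subgroup.subset_closure ⟨_, ⟨r, hr, t, rfl⟩, hf r t⟩

theorem mem_uGe_of_genB (hW : GoodWeyl D) {f : D.SteinbergGroup K →* GL D.Idx K}
    (hf : ∀ r t, f (xb r t) = X hW.good r t) {m : ℕ} (hm : half D ≤ m) {g : D.SteinbergGroup K}
    (hg : g ∈ genB D K (geSet D m)) : f g ∈ uGe hW.good K false m := by
  have h : f g ∈ rootGen hW.good K (geSet D m) :=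
    map_genB_le hW hf (geSet D m) ▸ Subgroup.mem_map_of_mem f hg
  refine rootGen_le hW.good (fun r hr t => ?_) h
  have hr' : m ≤ (r : ℕ) := hr
  exact X_mem_uGe _ (by simp only [key, Bool.false_eq_true, if_false]; omega)
    (by simp only [key, Bool.false_eq_true, if_false]; omega) _

/-- A homomorphism to the root elements is injective on the positive side. -/
theorem eq_one_of_genB (hW : GoodWeyl D) {f : D.SteinbergGroup K →* GL D.Idx K}
    (hf : ∀ r t, f (xb r t) = X hW.good r t) {g : D.SteinbergGroup K}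
    (hg : g ∈ genB D K (posSet D)) (h1 : f g = 1) : g = 1 := by
  suffices H : ∀ k m, half D ≤ m → m + k = D.nroots → ∀ g ∈ genB D K (geSet D m), f g = 1 → g = 1 by
    have := hW.good.two_half
    exact H (half D) (half D) le_rfl (by omega) g hg h1
  intro k
  induction k with
  | zero =>
    intro m _ hm g hg _
    have he : geSet D m = ∅ := by
      ext r
      have := r.isLt
      simp only [geSet, Set.mem_ofPred_eq, Set.mem_empty_iff_false, iff_false]
      omega
    rw [genB, he] at hg
    simpa using hg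
  | succ k ih =>
    intro m hm hmk g hg h1
    set a : Root D := ⟨m, by omega⟩
    obtain ⟨u, hu, v, rfl⟩ := exists_split_genB hW (a := a) (S := geSet D (m + 1)) hm
      (fun s hs => ⟨by have : m + 1 ≤ (s : ℕ) := hs; omega,
        fun k hk _ => show m + 1 ≤ (k : ℕ) from hk⟩)
      (fun r hr => by
        by_cases h : (r : ℕ) = m
        · exact Or.inl (Fin.ext h)
        · exact Or.inr (show m + 1 ≤ (r : ℕ) by have : m ≤ (r : ℕ) := hr; omega)) hg
    set u' := (xb a v)⁻¹ * u * xb a v with hu'
    have hu'm : u' ∈ genB D K (geSet D (m + 1)) := by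
      have := xb_conj_genB hW (a := a) (S := geSet D (m + 1)) hm
        (fun s hs => ⟨by have : m + 1 ≤ (s : ℕ) := hs; omega,
          fun k hk _ => show m + 1 ≤ (k : ℕ) from hk⟩) (-v) hu
      rwa [← xb_inv, inv_inv, ← hu'] at this
    have hg' : u * xb a v = xb a v * u' := by rw [hu']; group
    obtain ⟨t, ht⟩ := exists_prodFrom hW.toGoodComm k (m + 1) (by omega) (by omega) _
      (mem_uGe_of_genB hW hf (by omega) hu'm)
    have hroot : rootOf hW.good false m = a := by
      apply key_injective false
      rw [key_rootOf hW.good (by omega)]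
      rfl
    have hp : prodFrom hW.good false (Function.update t m v) m (k + 1) =
        prodFrom hW.good false (0 : ℕ → K) m (k + 1) := by
      rw [prodFrom_succ, prodFrom_congr hW.good (t := Function.update t m v) (t' := t)
          (fun j hj _ => Function.update_of_ne (by omega) _ _), Function.update_self, hroot, ht,
        ← hf, ← map_mul, ← hg', h1]
      refine (List.prod_eq_one fun x hx => ?_).symm
      obtain ⟨j, -, rfl⟩ := List.mem_map.1 hx
      exact X_zero _ _
    have hv := prodFrom_injective hW.toGoodUni (k + 1) m hm hmk _ _ hp m le_rfl (by omega)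
    rw [Function.update_self, Pi.zero_apply] at hv
    subst hv
    rw [xb_zero, mul_one] at h1 ⊢
    exact ih (m + 1) (by omega) (by omega) u hu h1

end CfsgLib.SteinbergPres
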